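import Mathlib.LinearAlgebra.Matrix.ToLinearEquiv
import Mathlib.LinearAlgebra.Dual.Lemmas
import Mathlib.LinearAlgebra.FiniteDimensional.Lemmas

/-! # Families of functionals without common zero -/

set_option autoImplicit false
universe u

namespace K568.DetLemma

variable {k : Type u} [Field k]

/-- A family of functionals without common zero contains a dual basis. -/
theorem exists_det_ne_zero {F : Type u} [AddCommGroup F] [Module k F] {M : ℕ}
    (b : Module.Basis (Fin M) k F) {ι : Type*} (v : ι → Module.Dual k F)
    (h : ∀ x, (∀ i, v i x = 0) → x = 0) :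
    ∃ σ : Fin M → ι, (Matrix.of fun i j => v (σ i) (b j)).det ≠ 0 := by
  classical
  have hfin : Module.Finite k F := Module.Finite.of_basis b
  have hspan : Submodule.span k (Set.range v) = ⊤ := by
    by_contra hne
    obtain ⟨φ, hφ, hle⟩ := Submodule.exists_le_ker_of_lt_top _ (lt_top_iff_ne_top.2 hne)
    obtain ⟨x, hx⟩ := (Module.evalEquiv k F).surjective φ
    apply hφ
    have hx0 : x = 0 := h x fun i => by
      have h1 : φ (v i) = 0 := hle (Submodule.subset_span ⟨i, rfl⟩)
      rw [← hx] at h1
      exact h1
    rw [← hx, hx0, map_zero]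
  obtain ⟨κ, a, -, hsp, hli⟩ := exists_linearIndependent' k v
  rw [hspan] at hsp
  let B : Module.Basis κ k (Module.Dual k F) := Module.Basis.mk hli hsp.ge
  have : Fintype κ := FiniteDimensional.fintypeBasisIndex B
  have hcard : Fintype.card κ = M := by
    rw [← Module.finrank_eq_card_basis B, Subspace.dual_finrank_eq, Module.finrank_eq_card_basis b,
      Fintype.card_fin]
  let e : Fin M ≃ κ := (Fintype.equivFinOfCardEq hcard).symm
  refine ⟨fun i => a (e i), fun hdet => ?_⟩
  obtain ⟨c, hc, hc0⟩ := Matrix.exists_vecMul_eq_zero_iff.2 hdet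
  apply hc
  have h1 : ∑ i, c i • v (a (e i)) = 0 := by
    refine b.ext fun j => ?_
    have h2 := congrFun hc0 j
    simp only [Matrix.vecMul, dotProduct, Matrix.of_apply, Pi.zero_apply] at h2
    rw [LinearMap.sum_apply, LinearMap.zero_apply, ← h2]
    rfl
  have h3 := (hli.comp e e.injective)
  exact funext (Fintype.linearIndependent_iff.1 h3 c h1)

theorem eq_zero_of_det_ne_zero {F : Type u} [AddCommGroup F] [Module k F] {M : ℕ}
    (b : Module.Basis (Fin M) k F) (v : Fin M → Module.Dual k F)
    (h : (Matrix.of fun i j => v i (b j)).det ≠ 0) {x : F} (hx : ∀ i, v i x = 0) : x = 0 := by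
  classical
  have h1 : (Matrix.of fun i j => v i (b j)).mulVec (b.repr x) = 0 := by
    funext i
    have h2 := hx i
    rw [← b.sum_repr x, map_sum] at h2
    simp only [map_smul] at h2
    simp only [Matrix.mulVec, dotProduct, Matrix.of_apply, Pi.zero_apply]
    rw [← h2]
    exact Finset.sum_congr rfl fun j _ => mul_comm _ _
  have h2 : (b.repr x : Fin M → k) = 0 := by
    by_contra hne
    exact h (Matrix.exists_mulVec_eq_zero_iff.1 ⟨_, hne, h1⟩)
  apply b.repr.injective
  rw [map_zero]
  exact DFunLike.coe_injective h2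


end K568.DetLemma
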