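import Groth.Agent.Lefpen.H702.PolyFun
import Groth.Agent.Lefpen.H703.ZOpen
import Mathlib.Algebra.Order.Antidiag.FinsuppEquiv
import Groth.Agent.LefPen.K568.DetLemma

/-! # Points imposing independent conditions on forms of degree `d` -/

set_option autoImplicit false
universe u

namespace K568.GenericForms

open MvPolynomial LefPen Groth.Agent.Lefpen.H702.PolyFun K568.DetLemma

theorem finite_deg (r d : ℕ) : Finite {e : Fin (r + 1) →₀ ℕ // e.degree = d} := by
  have h1 : {e : Fin (r + 1) →₀ ℕ | e.degree = d}.Finite := by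
    have h2 : ((Finset.univ : Finset (Fin (r + 1))).finsuppAntidiag d : Set (Fin (r + 1) →₀ ℕ)).Finite :=
      Finset.finite_toSet _
    refine h2.subset fun e he ↦ ?_
    rw [Finset.mem_coe, Finset.mem_finsuppAntidiag]
    refine ⟨?_, by simp⟩
    rw [← he, Finsupp.degree_eq_sum]
  exact h1.to_subtype

theorem card_deg (r d : ℕ) : Nat.card {e : Fin (r + 1) →₀ ℕ // e.degree = d} = (r + d).choose d := by
  have h := Finset.card_finsuppAntidiag_nat_eq_choose (s := (Finset.univ : Finset (Fin (r + 1)))) d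
  rw [Finset.card_univ, Fintype.card_fin, show r + 1 + d - 1 = r + d by omega] at h
  rw [← h, ← Fintype.card_coe, ← Nat.card_eq_fintype_card]
  refine Nat.card_congr (Equiv.subtypeEquivRight fun e => ?_)
  rw [Finset.mem_finsuppAntidiag, Finsupp.degree_eq_sum]
  simp

variable {k : Type u} [Field k]

instance finiteDimensional_form (r d : ℕ) : Module.Finite k (Form r k d) := by
  have := finite_deg r d
  exact Module.Finite.equiv (formCoords r k d).symm

theorem finrank_form (r d : ℕ) : Module.finrank k (Form r k d) = (r + d).choose d := by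
  have := finite_deg r d
  have := Fintype.ofFinite {e : Fin (r + 1) →₀ ℕ // e.degree = d}
  rw [(formCoords r k d).finrank_eq, Module.finrank_pi, ← Nat.card_eq_fintype_card, card_deg]

/-- Evaluation of forms at a vector. -/
noncomputable def ev {r : ℕ} (d : ℕ) (x : Fin (r + 1) → k) : Module.Dual k (Form r k d) :=
  (MvPolynomial.aeval x).toLinearMap ∘ₗ (Submodule.subtype _)

theorem ev_apply {r d : ℕ} (x : Fin (r + 1) → k) (G : Form r k d) : ev d x G = MvPolynomial.aeval x G.1 := rfl

theorem main [Infinite k] (r d m : ℕ) (hm : Nat.choose (r + d) d ≤ m) :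
    LefPen.IsZOpen k {x : Fin m → (Fin (r + 1) → k) |
      ∀ G : LefPen.Form r k d, (∀ i : Fin m, MvPolynomial.aeval (x i) G.1 = 0) → G = 0} ∧
    LefPen.IsGeneric k {x : Fin m → (Fin (r + 1) → k) |
      ∀ G : LefPen.Form r k d, (∀ i : Fin m, MvPolynomial.aeval (x i) G.1 = 0) → G = 0} := by
  classical
  set M := Nat.choose (r + d) d with hM
  let b : Module.Basis (Fin M) k (Form r k d) := Module.finBasisOfFinrankEq k _ (finrank_form r d)
  let f : (Fin M → Fin m) → (Fin m → (Fin (r + 1) → k)) → k := fun σ x =>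
    (Matrix.of fun i j => ev d (x (σ i)) (b j)).det
  have hf : ∀ σ, IsPolyFun k (f σ) := fun σ => by
    refine Groth.Agent.Lefpen.H703.ZOpen.isPolyFun_det fun i j => ?_
    refine Groth.Agent.Lefpen.H703.ZOpen.isPolyFun_aeval _ fun l => ?_
    exact isPolyFun_dual ((LinearMap.proj (R := k) (φ := fun _ : Fin (r + 1) => k) l) ∘ₗ
      (LinearMap.proj (R := k) (φ := fun _ : Fin m => (Fin (r + 1) → k)) (σ i)))
  have hin : ∀ σ x, f σ x ≠ 0 → ∀ G : LefPen.Form r k d,
      (∀ i : Fin m, MvPolynomial.aeval (x i) G.1 = 0) → G = 0 := fun σ x hx G hG =>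
    eq_zero_of_det_ne_zero b (fun i => ev d (x (σ i))) hx fun i => hG (σ i)
  constructor
  · intro x hx
    obtain ⟨σ, hσ⟩ := exists_det_ne_zero b (fun i => ev d (x i)) fun G hG => hx G hG
    exact ⟨f σ, hf σ, hσ, fun w hw => hin σ w hw⟩
  · obtain ⟨τ, hτ⟩ := exists_det_ne_zero b (fun x : Fin (r + 1) → k => ev d x) fun G hG => by
      apply Subtype.ext
      refine MvPolynomial.funext fun x => ?_
      have h1 := hG x
      rw [ev_apply] at h1
      rw [ZeroMemClass.coe_zero, map_zero, ← MvPolynomial.coe_aeval_eq_eval]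
      exact h1
    refine ⟨f (Fin.castLE hm), hf _, ⟨fun i => if h : i.1 < M then τ ⟨i.1, h⟩ else 0, ?_⟩, fun w hw => hin _ w hw⟩
    have h1 : ∀ i : Fin M, (if h : (Fin.castLE hm i).1 < M then τ ⟨(Fin.castLE hm i).1, h⟩ else 0) = τ i := by
      intro i
      rw [dif_pos (show (Fin.castLE hm i).1 < M from i.2)]
      rfl
    change (Matrix.of fun i j => ev d (if h : (Fin.castLE hm i).1 < M then τ ⟨(Fin.castLE hm i).1, h⟩ else 0) (b j)).det ≠ 0
    simp only [h1]
    exact hτ

end K568.GenericForms
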