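import Groth.Agent.Lefpen.H722.Hodge

/-!
# Bott vanishing for systems of forms without equations
-/

set_option autoImplicit false
universe u

namespace K568.BottSys

open Groth.Agent.Lefpen.H722.Sys Groth.Agent.Lefpen.H722.GSys

variable {k : Type u} [Field k] {ι : Type} [LinearOrder ι] [Fintype ι] (𝔊 : GSys k ι)

/-- The hypotheses of projective space of dimension `r`. -/
structure PHyp (r : ℕ) : Prop where
  d0 : 𝔊.d = 0
  card : Fintype.card ι = r + 1
  r1 : 1 ≤ r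
  low : ∀ m : ℤ, m < 0 → Subsingleton (H (O 𝔊 m) 0)
  mid : ∀ (m : ℤ) (i : ℕ), 0 < i → i ≠ r → Subsingleton (H (O 𝔊 m) i)
  top : ∀ m : ℤ, -(r + 1 : ℤ) < m → Subsingleton (H (O 𝔊 m) r)

variable {𝔊} {r : ℕ} (h : PHyp 𝔊 r)

include h

theorem N_of_O (q : ℕ) (m : ℤ) (i : ℕ) (hO : Subsingleton (H (O 𝔊 (m - q)) i)) :
    Subsingleton (H (N 𝔊 𝔊.d q m) i) := by
  rw [h.d0]
  exact subsingleton_N0 𝔊 q m i hO

theorem N_low (q : ℕ) (m : ℤ) (hm : m < q) : Subsingleton (H (N 𝔊 𝔊.d q m) 0) :=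
  N_of_O h q m 0 (h.low _ (by omega))

theorem N_mid (q : ℕ) (m : ℤ) (i : ℕ) (hi : 0 < i) (hir : i ≠ r) : Subsingleton (H (N 𝔊 𝔊.d q m) i) :=
  N_of_O h q m i (h.mid _ i hi hir)

theorem N_top (q : ℕ) (m : ℤ) (hm : (q : ℤ) - (r + 1) < m) : Subsingleton (H (N 𝔊 𝔊.d q m) r) :=
  N_of_O h q m r (h.top _ (by omega))

omit h in
theorem right_rec (q : ℕ) (m : ℤ) (i t : ℕ)
    (hN : ∀ s < t, Subsingleton (H (N 𝔊 𝔊.d (q + s + 1) m) (i + s)))
    (hZ : Subsingleton (H (Z 𝔊 (q + t) m) (i + t))) : Subsingleton (H (Z 𝔊 q m) i) := by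
  induction t with
  | zero => exact hZ
  | succ t ih =>
    refine ih (fun s hs => hN s (by omega)) ?_
    exact subsingleton_right (isSES_Z 𝔊 (q + t) m) (i + t) (hN t (by omega)) hZ

omit h in
theorem left_rec (q : ℕ) (m : ℤ) (i t : ℕ)
    (hN : ∀ s < t, Subsingleton (H (N 𝔊 𝔊.d (q + s + 1) m) (i + s + 1)))
    (hZ : Subsingleton (H (Z 𝔊 q m) i)) : Subsingleton (H (Z 𝔊 (q + t) m) (i + t)) := by
  induction t with
  | zero => exact hZ
  | succ t ih =>
    exact subsingleton_left (isSES_Z 𝔊 (q + t) m) (i + t) (ih (fun s hs => hN s (by omega)))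
      (hN t (by omega))

theorem Z_zero (m : ℤ) (i : ℕ) : Nonempty (H (Z 𝔊 0 m) i ≃ₗ[k] H (O 𝔊 m) i) := by
  obtain ⟨e⟩ := nonempty_Z_equiv_N 𝔊 0 m (Nat.zero_le _) i
  obtain ⟨e'⟩ := nonempty_O0 𝔊 m i
  have h0 := h.d0
  have e2 : H (N 𝔊 𝔊.d 0 m) i = H (N 𝔊 0 0 m) i := by rw [h0]
  have e3 : Nonempty (H (N 𝔊 𝔊.d 0 m) i ≃ₗ[k] H (N 𝔊 0 0 m) i) := by
    rw [h0]
    exact ⟨LinearEquiv.refl _ _⟩
  obtain ⟨e3⟩ := e3
  exact ⟨(e.trans e3).trans e'.symm⟩

theorem Z_zero_of (m : ℤ) (i : ℕ) (hO : Subsingleton (H (O 𝔊 m) i)) : Subsingleton (H (Z 𝔊 0 m) i) := by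
  obtain ⟨e⟩ := Z_zero h m i
  exact e.toEquiv.subsingleton

theorem Z_r_of (m : ℤ) (i : ℕ) (hO : Subsingleton (H (O 𝔊 (m - (r + 1))) i)) : Subsingleton (H (Z 𝔊 r m) i) := by
  obtain ⟨e⟩ := nonempty_topZ 𝔊 r h.card m _ rfl i
  exact e.toEquiv.subsingleton

theorem Z_big (q : ℕ) (m : ℤ) (i : ℕ) (hq : r < q) : Subsingleton (H (Z 𝔊 q m) i) :=
  subsingleton_Z_of_card_le 𝔊 q m (by rw [h.card]; omega) i

/-- Vanishing above the dimension. -/
theorem vanish_big (q : ℕ) (m : ℤ) (i : ℕ) (hi : r < i) : Subsingleton (H (Z 𝔊 q m) i) := by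
  rcases lt_or_ge r q with hq | hq
  · exact Z_big h q m i hq
  · refine right_rec q m i (r + 1 - q) (fun s hs => N_mid h _ _ _ (by omega) (by omega)) ?_
    exact Z_big h _ _ _ (by omega)

/-- Vanishing below the diagonal. -/
theorem vanish_lt (q : ℕ) (m : ℤ) (i : ℕ) (hiq : i < q) (hi0 : i = 0 → m ≤ q) : Subsingleton (H (Z 𝔊 q m) i) := by
  rcases lt_or_ge r q with hq | hq
  · exact Z_big h q m i hq
  · obtain ⟨t, rfl⟩ : ∃ t, r = q + t := ⟨r - q, by omega⟩
    refine right_rec q m i t (fun s hs => ?_) ?_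
    · rcases Nat.eq_zero_or_pos (i + s) with h0 | h0
      · rw [h0]
        have hm := hi0 (by omega)
        refine N_low h _ _ ?_
        push_cast
        omega
      · exact N_mid h _ _ _ h0 (by omega)
    · refine Z_r_of h m (i + t) ?_
      rcases Nat.eq_zero_or_pos (i + t) with h0 | h0
      · rw [h0]
        have hm := hi0 (by omega)
        refine h.low _ ?_
        push_cast
        omega
      · exact h.mid _ _ h0 (by omega)

/-- Vanishing above the diagonal. -/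
theorem vanish_gt (q : ℕ) (m : ℤ) (i : ℕ) (hiq : q < i) (hir : i = r → (q : ℤ) - r ≤ m) :
    Subsingleton (H (Z 𝔊 q m) i) := by
  rcases lt_or_ge r i with hi | hi
  · exact vanish_big h q m i hi
  · obtain ⟨c, rfl⟩ : ∃ c, i = c + q := ⟨i - q, by omega⟩
    have key := left_rec (𝔊 := 𝔊) 0 m c q (fun s hs => ?_) ?_
    · rwa [Nat.zero_add] at key
    · by_cases hr : c + s + 1 = r
      · rw [hr]
        refine N_top h _ _ ?_
        have := hir (by omega)
        push_cast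
        omega
      · exact N_mid h _ _ _ (by omega) hr
    · refine Z_zero_of h m c ?_
      by_cases hr : c = r
      · subst hr
        refine h.top _ ?_
        have := hir (by omega)
        omega
      · exact h.mid _ _ (by omega) hr

/-- Vanishing on the diagonal, negative twist. -/
theorem vanish_diag_neg (q : ℕ) (m : ℤ) (hm : m < 0) (hir : q ≠ r) : Subsingleton (H (Z 𝔊 q m) q) := by
  rcases lt_or_ge r q with hi | hi
  · exact vanish_big h q m q hi
  · have key := left_rec (𝔊 := 𝔊) 0 m 0 q (fun s hs => ?_) ?_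
    · rwa [Nat.zero_add] at key
    · exact N_mid h _ _ _ (by omega) (by omega)
    · exact Z_zero_of h m 0 (h.low _ hm)

/-- Vanishing on the diagonal, positive twist. -/
theorem vanish_diag_pos (q : ℕ) (m : ℤ) (hm : 0 < m) (hq0 : q ≠ 0) : Subsingleton (H (Z 𝔊 q m) q) := by
  rcases lt_or_ge r q with hi | hi
  · exact vanish_big h q m q hi
  · obtain ⟨t, ht⟩ : ∃ t, r = q + t := ⟨r - q, by omega⟩
    refine right_rec q m q t (fun s hs => N_mid h _ _ _ (by omega) (by omega)) ?_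
    rw [← ht]
    exact Z_r_of h m r (h.top _ (by omega))

/-- **Bott vanishing**, twisted. -/
theorem vanish (q : ℕ) (m : ℤ) (hm : m ≠ 0) (i : ℕ) (h0 : ¬ (i = 0 ∧ (q : ℤ) < m))
    (hr : ¬ (i = r ∧ m < (q : ℤ) - r)) : Subsingleton (H (Z 𝔊 q m) i) := by
  rcases Nat.lt_trichotomy i q with hiq | rfl | hiq
  · exact vanish_lt h q m i hiq (fun hi => by by_contra hc; exact h0 ⟨hi, by omega⟩)
  · rcases lt_or_gt_of_ne hm with hm' | hm'
    · refine vanish_diag_neg h i m hm' (fun hir => hr ⟨hir, ?_⟩)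
      omega
    · refine vanish_diag_pos h i m hm' (fun hi0 => h0 ⟨hi0, ?_⟩)
      omega
  · exact vanish_gt h q m i hiq (fun hi => by by_contra hc; exact hr ⟨hi, by omega⟩)

/-- **Bott vanishing**, untwisted. -/
theorem vanish0 (q i : ℕ) (hqi : i ≠ q ∨ r < i) : Subsingleton (H (Z 𝔊 q 0) i) := by
  rcases hqi with hqi | hi
  · rcases lt_or_gt_of_ne hqi with hiq | hiq
    · exact vanish_lt h q 0 i hiq (fun _ => by omega)
    · rcases lt_or_ge r i with hi | hi
      · exact vanish_big h q 0 i hi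
      · exact vanish_gt h q 0 i hiq (fun hi => by omega)
  · exact vanish_big h q 0 i hi

/-- The diagonal. -/
theorem diag (h1 : Module.finrank k (H (O 𝔊 0) 0) = 1) (q : ℕ) (hq : q ≤ r) :
    Module.finrank k (H (Z 𝔊 q 0) q) = 1 := by
  induction q with
  | zero =>
    obtain ⟨e⟩ := Z_zero h 0 0
    exact e.finrank_eq.trans h1
  | succ q ih =>
    obtain ⟨e⟩ := nonempty_equiv_δ (isSES_Z 𝔊 q 0) q (by
      rcases Nat.eq_zero_or_pos q with rfl | hq0
      · exact N_low h _ _ (by norm_num)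
      · exact N_mid h _ _ _ hq0 (by omega)) (by
      by_cases hr : q + 1 = r
      · rw [hr]
        refine N_top h _ _ ?_
        push_cast
        omega
      · exact N_mid h _ _ _ (by omega) hr)
    exact e.finrank_eq.symm.trans (ih (by omega))

end K568.BottSys
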