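import Groth.Agent.LefPen.K568.TwSys
import Groth.Agent.Lefpen.H721.OmZ

/-!
# Sections of `Ω^p` and Čech systems of forms

`zMod`: the graded system of forms killed by the differentials of the equations and by the Euler contraction.
`nonempty_omSec`: over opens `U i` with `Γ(X, U_I) = (F G I)_0` the sections of `Ω^p` are its part of degree `A`.
-/

set_option autoImplicit false
universe u
open CategoryTheory CategoryTheory.Limits AlgebraicGeometry Opposite TopologicalSpace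

namespace K568.OmSec

open K568.TwSys
open Groth.Agent.Lefpen.H722.Sys Groth.Agent.Lefpen.H722.Ring Groth.Agent.Lefpen.H722.Forms
open Groth.Agent.Lefpen.H722.GSys Groth.Agent.Lefpen.H722.Hodge
open Groth.Agent.Lefpen.H278.RingIso Groth.Agent.Lefpen.H278.SecSys
open Groth.Agent.Lefpen.H721.OmegaSec Groth.Agent.Lefpen.H721.OmegaPow Groth.Agent.Lefpen.H721.OmZ
open Groth.Agent.Lefpen.H721.PsiF

section Alg

variable {k : Type u} [CommRing k] {ι : Type} [Fintype ι] [LinearOrder ι] {d : ℕ}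
  (G : Fin d → MvPolynomial ι k) (a : Fin d → ℕ) (ha : ∀ j, 1 ≤ a j) (hG : ∀ j, (G j).IsHomogeneous (a j))
  (hΦ : HasΦ G a)

/-- The graded system of forms. -/
noncomputable def zMod (q : ℕ) : ModSys G where
  Mod I := Finset ι → F G I
  P I m := Zsub (gr G I) (v G I) (T G I) d q m
  smul_mem {I a b x y} hx hy := by
    refine ⟨⟨⟨fun s hs => ?_, fun s hs => ?_⟩, fun j hj => ?_⟩, ?_⟩
    · have h1 := mul_mem_gr G hx (hy.1.1.1 s hs)
      change x * y s ∈ gr G I (a + b - q)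
      rwa [add_sub_assoc]
    · change x * y s = 0
      rw [hy.1.1.2 s hs, mul_zero]
    · rw [map_smul, hy.1.2 j hj, smul_zero]
    · rw [map_smul, hy.2, smul_zero]
  r {I J} h :=
    { toFun := fun x => mapF (ρ G h).toRingHom x
      map_add' := fun x y => by funext s; exact map_add (ρ G h) _ _
      map_smul' := fun c x => by funext s; exact map_smul (ρ G h) c (x s) }
  r_smul h x y := by
    funext s
    exact map_mul (ρ G h) x (y s)
  r_mem {I J} h {m y} hy := mapF_mem_Zsub (mkG G a ha hG hΦ) h hy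
  r_r h h' y := by
    funext s
    exact Groth.Agent.Lefpen.H722.Ring.ρ_ρ G h h' (y s)

theorem zMod_sys (q : ℕ) (m : ℤ) : (zMod G a ha hG hΦ q).sys m = Z (mkG G a ha hG hΦ) q m := rfl

/-- The graded system of functions. -/
noncomputable def oMod : ModSys G where
  Mod I := F G I
  P I m := gr G I m
  smul_mem hx hy := mul_mem_gr G hx hy
  r h := (ρ G h).toLinearMap
  r_smul h x y := map_mul (ρ G h) x y
  r_mem := fun {I J} h {m y} hy => ρ_mem_gr G h hy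
  r_r h h' y := Groth.Agent.Lefpen.H722.Ring.ρ_ρ G h h' y

theorem oMod_sys (m : ℤ) : (oMod G).sys m = O (mkG G a ha hG hΦ) m := rfl

/-- `⋀^p Ω[(F_I)_0⁄k]` as forms. -/
noncomputable def omE (p : ℕ) {I : Set ι} (hI : I.Nonempty) :
    ⋀[F0 G I]^p Ω[F0 G I⁄k] ≃ₗ[k] (zMod G a ha hG hΦ (p + d)).P I (A (mkG G a ha hG hΦ) d) :=
  LinearEquiv.ofBijective (omZ G a ha hG hΦ p hI) (omZ_bijective G a ha hG hΦ p hI)

theorem omE_smul (p : ℕ) {I : Set ι} (hI : I.Nonempty) (b : F0 G I) (y : ⋀[F0 G I]^p Ω[F0 G I⁄k]) :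
    omE G a ha hG hΦ p hI (b • y) =
      ⟨b.1 • (omE G a ha hG hΦ p hI y).1, (zMod G a ha hG hΦ (p + d)).smul_mem0 b (omE G a ha hG hΦ p hI y).2⟩ :=
  Subtype.ext (map_smul (PsiF G (hΦ I hI).choose_spec.2) b y.1)

/-- Restriction. -/
noncomputable def resE (p : ℕ) {I J : Set ι} (h : I ⊆ J) :
    ⋀[F0 G I]^p Ω[F0 G I⁄k] →ₗ[k] ⋀[F0 G J]^p Ω[F0 G J⁄k] :=
  powL (Groth.Agent.Lefpen.H278.RingIso.ρ0 G h) p

theorem resE_powE {B : Set ι → Type u} [∀ I, CommRing (B I)] [∀ I, Algebra k (B I)] {I J : Set ι} (h : I ⊆ J)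
    (eI : F0 G I ≃ₐ[k] B I) (eJ : F0 G J ≃ₐ[k] B J) (q : B I →ₐ[k] B J)
    (hq : ∀ s, q (eI s) = eJ (Groth.Agent.Lefpen.H278.RingIso.ρ0 G h s)) (p : ℕ) (x : ⋀[F0 G I]^p Ω[F0 G I⁄k]) :
    powS q p (powE eI p x) = powE eJ p (resE G p h x) := by
  rw [powE_apply, powE_apply, resE, powL_apply, powS_powS, powS_powS]
  exact powS_congr (fun s => hq s) p x

theorem omE_nat (p : ℕ) {I J : Set ι} (hI : I.Nonempty) (h : I ⊆ J) (y : ⋀[F0 G I]^p Ω[F0 G I⁄k]) :
    omE G a ha hG hΦ p (hI.mono h) (resE G p h y) =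
      ⟨(zMod G a ha hG hΦ (p + d)).r h (omE G a ha hG hΦ p hI y).1,
        (zMod G a ha hG hΦ (p + d)).r_mem h (omE G a ha hG hΦ p hI y).2⟩ :=
  omZ_nat G a ha hG hΦ p hI h y

end Alg

section Sch

variable {k : Type u} [Field k] {ι : Type} [Fintype ι] [LinearOrder ι] {d : ℕ}
  {G : Fin d → MvPolynomial ι k} (a : Fin d → ℕ) (ha : ∀ j, 1 ≤ a j) (hG : ∀ j, (G j).IsHomogeneous (a j))
  (hΦ : HasΦ G a) {X : Scheme.{u}} {f : X ⟶ Spec (CommRingCat.of k)} {U : ι → X.Opens} (D : CData G f U)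

/-- The identification of forms with sections. -/
noncomputable def omθ {p : ℕ} {L : X.Modules}
    (E : ∀ W : X.affineOpens, ⋀[SA f W.1]^p Ω[SA f W.1⁄k] ≃ₗ[SA f W.1] Γ(L, W.1)) {I : Set ι} (hI : I.Nonempty) :
    (zMod G a ha hG hΦ (p + d)).P I (A (mkG G a ha hG hΦ) d) ≃+ Γ(L, UI U I) :=
  ((omE G a ha hG hΦ p hI).symm.toAddEquiv.trans (powE (D.e hI) p).toAddEquiv).trans
    (E ⟨UI U I, D.aff' hI⟩).toAddEquiv

theorem omθ_omE {p : ℕ} {L : X.Modules}
    (E : ∀ W : X.affineOpens, ⋀[SA f W.1]^p Ω[SA f W.1⁄k] ≃ₗ[SA f W.1] Γ(L, W.1)) {I : Set ι} (hI : I.Nonempty)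
    (x : ⋀[F0 G I]^p Ω[F0 G I⁄k]) :
    omθ a ha hG hΦ D E hI (omE G a ha hG hΦ p hI x) = E ⟨UI U I, D.aff' hI⟩ (powE (D.e hI) p x) := by
  have h1 : (omE G a ha hG hΦ p hI).symm (omE G a ha hG hΦ p hI x) = x := LinearEquiv.symm_apply_apply _ _
  exact congrArg (fun z => E ⟨UI U I, D.aff' hI⟩ (powE (D.e hI) p z)) h1

theorem omθ_smul {p : ℕ} {L : X.Modules}
    (E : ∀ W : X.affineOpens, ⋀[SA f W.1]^p Ω[SA f W.1⁄k] ≃ₗ[SA f W.1] Γ(L, W.1)) {I : Set ι} (hI : I.Nonempty)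
    (b : F0 G I) (y : (zMod G a ha hG hΦ (p + d)).P I (A (mkG G a ha hG hΦ) d)) :
    omθ a ha hG hΦ D E hI ⟨b.1 • y.1, (zMod G a ha hG hΦ (p + d)).smul_mem0 b y.2⟩ =
      D.fn hI b • omθ a ha hG hΦ D E hI y := by
  obtain ⟨x, rfl⟩ := (omE G a ha hG hΦ p hI).surjective y
  have h1 : omθ a ha hG hΦ D E hI (omE G a ha hG hΦ p hI (b • x)) = D.fn hI b • omθ a ha hG hΦ D E hI
      (omE G a ha hG hΦ p hI x) := by
    rw [omθ_omE, omθ_omE, powE_apply, powE_apply, LinearMap.map_smulₛₗ]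
    exact map_smul (E ⟨UI U I, D.aff' hI⟩) _ _
  rw [omE_smul] at h1
  exact h1

/-- The sections of `Ω^p` as forms. -/
theorem nonempty_omSec [QuasiCompact (pullback.diagonal f)] {p : ℕ} {L : X.Modules}
    (hL : ExtPow.IsExtPow p (Omega.sheaf f) L) :
    Nonempty (SecD D (zMod G a ha hG hΦ (p + d)) (A (mkG G a ha hG hΦ) d) L) := by
  obtain ⟨E, hE⟩ := exists_equiv_family f hL
  refine ⟨{ θ := fun {I} hI => omθ a ha hG hΦ D E hI
            smul := fun {I} hI b y => omθ_smul a ha hG hΦ D E hI b y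
            res := ?_ }⟩
  intro I J hI h y
  obtain ⟨x, rfl⟩ := (omE G a ha hG hΦ p hI).surjective y
  have h1 := hE ⟨UI U I, D.aff' hI⟩ ⟨UI U J, D.aff' (hI.mono h)⟩ (UI_anti U h) (powE (D.e hI) p x)
  have h2 : omθ a ha hG hΦ D E (hI.mono h) (omE G a ha hG hΦ p (hI.mono h) (resE G p h x)) =
      Groth.Agent.Fdesc.LocGen.res L (UI_anti U h) (omθ a ha hG hΦ D E hI (omE G a ha hG hΦ p hI x)) := by
    rw [omθ_omE, omθ_omE]
    refine Eq.trans ?_ h1.symm
    exact congrArg _ (resE_powE (B := fun I => SA f (UI U I)) G h (D.e hI) (D.e (hI.mono h)) (resA f (UI_anti U h))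
      (fun s => D.res hI h s) p x).symm
  rw [omE_nat] at h2
  exact h2.symm

/-- The functions. -/
noncomputable def oSec : SecD D (oMod G) 0 (Coh.structureModule X) where
  θ {I} hI := (show F0 G I ≃+ Γ(X, UI U I) from (D.e hI).toAddEquiv)
  smul {I} hI b y := map_mul (D.e hI) b (show F0 G I from y)
  res {I J} hI h y := D.res hI h (show F0 G I from y)

end Sch

end K568.OmSec
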