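import Groth.Agent.LefPen.K568.TwGeo
import Groth.Agent.LefPen.K568.OmSec
import Groth.Agent.LefPen.K568.BottSys
import Groth.Agent.Lefpen.H728.OHypCI
import Groth.Agent.Lefpen.H721.OmegaSec
import Groth.Agent.CycB.P1Sep
import Groth.Agent.S0022
import Groth.Agent.Sga5.ProjReg

/-!
# Bott's theorem on the cohomology of `Ω^p(m)` on projective space
-/

set_option autoImplicit false
universe u
open CategoryTheory CategoryTheory.Limits AlgebraicGeometry Opposite TopologicalSpace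

namespace K568.Bott

open K568.TwSys K568.TwGeo K568.OmSec K568.BottSys LefPen
open Groth.Agent.Lefpen.H722.Sys Groth.Agent.Lefpen.H722.Ring Groth.Agent.Lefpen.H722.GSys
open Groth.Agent.Lefpen.H722.Hodge Groth.Agent.Lefpen.H278.RingIso Groth.Agent.Lefpen.H278.SecSys
open Groth.Agent.Lefpen.H721.OmegaSec

variable (N : ℕ) (k : Type u) [Field k]

theorem ha0 : ∀ j : Fin 0, 1 ≤ a0 j := fun j => j.elim0

theorem hG0 : ∀ j : Fin 0, (Gp (G0 N k) j).IsHomogeneous (a0 j) := fun j => j.elim0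

theorem hΦ0 : HasΦ (Gp (G0 N k)) a0 := fun _ _ =>
  ⟨fun _ _ => 0, fun _ _ => Submodule.zero_mem _, fun _ _ h => absurd h (Nat.not_lt_zero _)⟩

/-- The system of forms of projective space. -/
noncomputable def pG : GSys k (Fin (N + 1)) := mkG (Gp (G0 N k)) a0 ha0 (hG0 N k) (hΦ0 N k)

theorem A_pG : A (pG N k) 0 = 0 := by
  unfold A
  rw [Finset.range_zero, Finset.sum_empty]

theorem oHyp (hN : 0 < N) : OHyp (pG N k) N :=
  Groth.Agent.Lefpen.H728.OHypCI.oHyp (Gp (G0 N k)) a0 ha0 (hG0 N k) (hΦ0 N k) (by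
    rw [Nat.cast_zero]; exact zero_le) hN (by rw [Fintype.card_fin])

theorem h0_pG (hN : 0 < N) : Module.finrank k (H (O (pG N k) 0) 0) = 1 :=
  Groth.Agent.Lefpen.H728.OHypCI.h0 (Gp (G0 N k)) a0 ha0 (hG0 N k) (hΦ0 N k) (by
    rw [Nat.cast_zero]; exact zero_le) hN (by rw [Fintype.card_fin])

variable {N k}

/-- The cohomology of a twist. -/
theorem nonempty_tw {S : ModSys (Gp (G0 N k))} {m₀ : ℤ} {M : (CohB1.ProjSpace N k).Modules}
    (σ : SecD (pData N k) S m₀ M) (hM : Coh.IsQCoh M) (m : ℤ) (i : ℕ)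
    [(CohB1.ProjSpace N k).Over (Spec (CommRingCat.of k))]
    (hover : (CohB1.ProjSpace N k) ↘ Spec (CommRingCat.of k) = CohB1.ProjSpace.toSpec N k) :
    Nonempty (H (S.sys (m₀ + m)) i ≃ₗ[k]
      Coh.HH (CohB1.ProjSpace N k) (CohB1.tensorMod M (Twist.twistProjSpace N k m)) i) := by
  obtain ⟨τ⟩ := nonempty_pTw (N := N) (k := k) m
  exact (σ.twist τ).nonempty_equiv hover (Groth.Agent.Ega2.TensGen.isQCoh_tensor hM τ.inv) i

theorem big_O (m : ℤ) (i : ℕ) (hi : N < i) : Subsingleton (H (O (pG N k) m) i) := by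
  let _ : (CohB1.ProjSpace N k).Over (Spec (CommRingCat.of k)) := ⟨CohB1.ProjSpace.toSpec N k⟩
  have hq : Coh.IsQCoh (Coh.structureModule (CohB1.ProjSpace N k)) := Groth.Agent.PerfA.QCohSerre.isQCoh_unit _
  obtain ⟨τ⟩ := nonempty_pTw (N := N) (k := k) m
  obtain ⟨e⟩ := nonempty_tw (oSec (pData N k)) hq m i rfl
  have hq' : Coh.IsQCoh (CohB1.tensorMod (Coh.structureModule (CohB1.ProjSpace N k)) (Twist.twistProjSpace N k m)) :=
    Groth.Agent.Ega2.TensGen.isQCoh_tensor hq τ.inv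
  have := Groth.Agent.S0022.result N k (CohB1.tensorMod (Coh.structureModule (CohB1.ProjSpace N k))
    (Twist.twistProjSpace N k m)) i hi
  have h1 : Subsingleton (H ((oMod (Gp (G0 N k))).sys (0 + m)) i) := e.toEquiv.subsingleton
  rw [zero_add] at h1
  exact h1

theorem pHyp (hN : 1 ≤ N) : PHyp (pG N k) N where
  d0 := rfl
  card := by rw [Fintype.card_fin]
  r1 := hN
  low m hm := (oHyp N k hN).low m hm
  mid m i hi hiN := by
    rcases lt_or_gt_of_ne hiN with h | h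
    · exact (oHyp N k hN).mid m i hi h
    · exact big_O m i h
  top m hm := (oHyp N k hN).top m (by
    have h1 : A (pG N k) (pG N k).d = 0 := A_pG N k
    rw [h1]
    change (0 : ℤ) - (N + 0 + 1 : ℕ) < m
    push_cast
    omega)

section Om

variable {p : ℕ} {L : (CohB1.ProjSpace N k).Modules}
  (hL : ExtPow.IsExtPow p (Omega.sheaf (CohB1.ProjSpace.toSpec N k)) L)

include hL

theorem nonempty_pSec : Nonempty (SecD (pData N k) (zMod (Gp (G0 N k)) a0 ha0 (hG0 N k) (hΦ0 N k) p) 0 L) := by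
  have hs : IsSeparated (CohB1.ProjSpace.toSpec N k) := Groth.Agent.CycB.P1Sep.isSeparated_toSpec N k
  obtain ⟨σ⟩ := nonempty_omSec a0 ha0 (hG0 N k) (hΦ0 N k) (pData N k) hL
  have h1 : A (mkG (Gp (G0 N k)) a0 ha0 (hG0 N k) (hΦ0 N k)) 0 = 0 := A_pG N k
  rw [h1] at σ
  exact ⟨σ⟩

theorem isQCoh_of_ext : Coh.IsQCoh L := by
  have hs : IsSeparated (CohB1.ProjSpace.toSpec N k) := Groth.Agent.CycB.P1Sep.isSeparated_toSpec N k
  have hsm : Smooth (CohB1.ProjSpace.toSpec N k) := Groth.Agent.Sga5.ProjReg.smooth_toSpec' N k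
  exact Groth.Agent.PerfA.QCohEpi.isQCoh_of_isFinLocFree
    (isFinLocFree_of_isExtPow_omega (CohB1.ProjSpace.toSpec N k) hL)

/-- The cohomology of `Ω^p(m)` in terms of systems of forms. -/
theorem nonempty_tw_Z (m : ℤ) (i : ℕ)
    [(CohB1.ProjSpace N k).Over (Spec (CommRingCat.of k))]
    (hover : (CohB1.ProjSpace N k) ↘ Spec (CommRingCat.of k) = CohB1.ProjSpace.toSpec N k) :
    Nonempty (H (Z (pG N k) p m) i ≃ₗ[k]
      Coh.HH (CohB1.ProjSpace N k) (CohB1.tensorMod L (Twist.twistProjSpace N k m)) i) := by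
  obtain ⟨σ⟩ := nonempty_pSec hL
  have h := nonempty_tw σ (isQCoh_of_ext hL) m i hover
  rw [zero_add] at h
  exact h

/-- The cohomology of `Ω^p` in terms of systems of forms. -/
theorem nonempty_Z (i : ℕ)
    [(CohB1.ProjSpace N k).Over (Spec (CommRingCat.of k))]
    (hover : (CohB1.ProjSpace N k) ↘ Spec (CommRingCat.of k) = CohB1.ProjSpace.toSpec N k) :
    Nonempty (H (Z (pG N k) p 0) i ≃ₗ[k] Coh.HH (CohB1.ProjSpace N k) L i) := by
  obtain ⟨σ⟩ := nonempty_pSec hL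
  exact σ.nonempty_equiv hover (isQCoh_of_ext hL) i

/-- **Bott vanishing.** -/
theorem subsingleton_tw (hN : 1 ≤ N) (m : ℤ) (hm : m ≠ 0) (i : ℕ) (h0 : ¬ (i = 0 ∧ (p : ℤ) < m))
    (hr : ¬ (i = N ∧ m < (p : ℤ) - N)) :
    Subsingleton (Coh.HH (CohB1.ProjSpace N k) (CohB1.tensorMod L (Twist.twistProjSpace N k m)) i) := by
  let _ : (CohB1.ProjSpace N k).Over (Spec (CommRingCat.of k)) := ⟨CohB1.ProjSpace.toSpec N k⟩
  obtain ⟨e⟩ := nonempty_tw_Z hL m i rfl
  have := vanish (pHyp (N := N) (k := k) hN) p m hm i h0 hr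
  exact e.symm.toEquiv.subsingleton

theorem subsingleton_Z (hN : 1 ≤ N) (i : ℕ) (hi : i ≠ p ∨ N < i) :
    Subsingleton (Coh.HH (CohB1.ProjSpace N k) L i) := by
  let _ : (CohB1.ProjSpace N k).Over (Spec (CommRingCat.of k)) := ⟨CohB1.ProjSpace.toSpec N k⟩
  obtain ⟨e⟩ := nonempty_Z hL i rfl
  have := vanish0 (pHyp (N := N) (k := k) hN) p i hi
  exact e.symm.toEquiv.subsingleton

theorem finrank_Z (hN : 1 ≤ N) (hp : p ≤ N)
    [(CohB1.ProjSpace N k).Over (Spec (CommRingCat.of k))]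
    (hover : (CohB1.ProjSpace N k) ↘ Spec (CommRingCat.of k) = CohB1.ProjSpace.toSpec N k) :
    Module.finrank k (Coh.HH (CohB1.ProjSpace N k) L p) = 1 := by
  obtain ⟨e⟩ := nonempty_Z hL p hover
  exact e.finrank_eq.symm.trans (diag (pHyp hN) (h0_pG N k hN) p hp)

end Om

end K568.Bott
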