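import Groth.Agent.Lefpen.H718.Chart

/-! # Hypersurfaces as complete intersections of one form -/

set_option autoImplicit false
universe u

open CategoryTheory AlgebraicGeometry

namespace K568.HypCI

open LefPen

variable {N : ℕ} {k : Type u} [Field k] {a : ℕ}

/-- The family consisting of one form. -/
def one (F : Form N k a) : ∀ _ : Fin 1, Form N k a := fun _ => F

theorem ciIdeal_one (F : Form N k a) : ciIdeal (a := fun _ : Fin 1 => a) (one F) = hypIdeal F := by
  change (⨆ _ : Fin 1, hypIdeal F) = hypIdeal F
  exact iSup_const

end K568.HypCI
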