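import Groth.Agent.Coherent.K51.CIStep
import Groth.Agent.Vancyc.H697.DimFib
import Groth.Agent.Krr.H458.DivSeq

/-!
# The ideal of a hypersurface of degree `d` in projective space is `O(-d)`
-/

set_option autoImplicit false
universe u

open CategoryTheory AlgebraicGeometry Limits TopologicalSpace Opposite MvPolynomial

namespace K568.HypIdMod

open Groth.Agent
open LefPen Groth.Agent.Lefpen.H718.Chart Groth.Agent.Lefpen.H705.HypIdeal Groth.Agent.Lefpen.H705.SecIdeal
open Groth.Agent.Lefpen.H705.ChartPoly Groth.Agent.Sga5 Groth.Agent.Fdesc.LocGen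
open Groth.Agent.Lefpen.H121.ChartLift Groth.Agent.FormalB Groth.Agent.Dix.IdealModCartier
open Groth.Agent.Lefpen.H121.CurveForm Groth.Agent.Picfga.LineHom

variable {N : ℕ} {k : Type u} [Field k]

/-- No equation at all. -/
def e0 : ∀ j : Fin 0, Form N k ((Fin.elim0 : Fin 0 → ℕ) j) := fun j => j.elim0

theorem ciIdeal_e0 : ciIdeal (e0 (N := N) (k := k)) = ⊥ := by
  unfold LefPen.ciIdeal
  simp

instance : IsIso (yι (e0 (N := N) (k := k))) := by
  have h : ∀ I : (CohB1.ProjSpace N k).IdealSheafData, I = ⊥ → IsIso I.subschemeι := by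
    rintro _ rfl
    infer_instance
  exact h _ ciIdeal_e0

theorem mem_nonZeroDivisors {b : ℕ} (H : Form N k b) (hH : H ≠ 0) (i : Fin (N + 1)) :
    fn (e0 (N := N) (k := k)) i H.1 ∈ nonZeroDivisors Γ(Y (e0 (N := N) (k := k)), ychart e0 i) := by
  rw [mem_nonZeroDivisors_iff_right]
  intro z hz
  obtain ⟨x, rfl⟩ := toY_surjective (e0 (N := N) (k := k)) i z
  have h3 : x * ProjChart.dehom N k i H.1 ∈ RingHom.ker (toY (e0 (N := N) (k := k)) i) := by
    rw [RingHom.mem_ker, map_mul]
    exact hz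
  have h4 : RingHom.ker (toY (e0 (N := N) (k := k)) i) = ⊥ := by
    rw [ker_toY, Ideal.span_eq_bot]
    rintro _ ⟨j, -⟩
    exact j.elim0
  rw [h4, Ideal.mem_bot, mul_eq_zero] at h3
  obtain h | h := h3
  · rw [h, map_zero]
  · exact absurd h (Vancyc.H697.DimFib.dehom_ne_zero i H.1 H.2 (fun h0 => hH (Subtype.ext h0)))

theorem comap_comap_inv {X Y : Scheme.{u}} (f : X ⟶ Y) [IsIso f] (I : Y.IdealSheafData) :
    (I.comap f).comap (inv f) = I := by
  rw [← Scheme.IdealSheafData.comap_comp, IsIso.inv_hom_id, Scheme.IdealSheafData.comap_id]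

theorem isEffCartier {b : ℕ} (H : Form N k b) (hH : H ≠ 0) : BlowUp.IsEffCartierIdeal (hypIdeal H) := by
  have h := Coherent.K51.CIStep.isEffCartier (e0 (N := N) (k := k)) H (mem_nonZeroDivisors H hH)
  have h2 := Divis.EffCartier.isEff_comap_flat h (inv (yι (e0 (N := N) (k := k))))
  rwa [comap_comap_inv] at h2

/-- The ideal module of a hypersurface of degree `b`. -/
theorem nonempty_iso {b : ℕ} (H : Form N k b) (hH : H ≠ 0) :
    Nonempty (ClSub.idealMod (hypIdeal H) ≅ Twist.twistProjSpace N k (-(b : ℤ))) := by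
  obtain ⟨e⟩ := Coherent.K51.CIStep.nonempty_iso (e0 (N := N) (k := k)) H (mem_nonZeroDivisors H hH)
  obtain ⟨e'⟩ := Dix.IdealModCartier.pullback_idealMod (yι (e0 (N := N) (k := k))) (isEffCartier H hH)
    (Coherent.K51.CIStep.isEffCartier (e0 (N := N) (k := k)) H (mem_nonZeroDivisors H hH))
  have := Krr.H458.DivSeq.isEquivalence_push (asIso (yι (e0 (N := N) (k := k))))
  have : (Scheme.Modules.pullback (asIso (yι (e0 (N := N) (k := k)))).hom).IsEquivalence :=
    (Scheme.Modules.pullbackPushforwardAdjunction _).isEquivalence_left_of_isEquivalence_right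
  exact ⟨(Scheme.Modules.pullback (asIso (yι (e0 (N := N) (k := k)))).hom).preimageIso (e' ≪≫ e)⟩

end K568.HypIdMod
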