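import Groth.Agent.Lefpen.H722.Hodge
import Mathlib.LinearAlgebra.FiniteDimensional.Basic
import Mathlib.Data.Fintype.Powerset

/-!
# Euler characteristics of Čech systems
-/

set_option autoImplicit false
universe u

open CategoryTheory Finset

namespace K568.Chi

open Groth.Agent.Lefpen.H722.Sys Groth.Agent.Lefpen.H722.GSys

variable {k : Type u} [Field k] {ι : Type}

section Alg

variable {a b c a' : ℕ → Type u} [∀ i, AddCommGroup (a i)] [∀ i, Module k (a i)] [∀ i, AddCommGroup (b i)]
  [∀ i, Module k (b i)] [∀ i, AddCommGroup (c i)] [∀ i, Module k (c i)]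

/-- The alternating count in a long exact sequence. -/
theorem les_count [∀ i, Module.Finite k (a i)] [∀ i, Module.Finite k (b i)] [∀ i, Module.Finite k (c i)]
    (f : ∀ i, a i →ₗ[k] b i) (g : ∀ i, b i →ₗ[k] c i) (δ : ∀ i, c i →ₗ[k] a (i + 1))
    (h0 : Function.Injective (f 0)) (h1 : ∀ i, Function.Exact (f i) (g i))
    (h2 : ∀ i, Function.Exact (g i) (δ i)) (h3 : ∀ i, Function.Exact (δ i) (f (i + 1))) (B : ℕ) :
    ∑ i ∈ range (B + 1), (-1 : ℤ) ^ i * ((Module.finrank k (b i) : ℤ) - Module.finrank k (a i) -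
      Module.finrank k (c i)) = -(-1 : ℤ) ^ B * Module.finrank k (LinearMap.range (δ B)) := by
  have hf : ∀ i, Module.finrank k (LinearMap.ker (g i)) = Module.finrank k (LinearMap.range (f i)) := fun i => by
    rw [(h1 i).linearMap_ker_eq]
  have hg : ∀ i, Module.finrank k (LinearMap.ker (δ i)) = Module.finrank k (LinearMap.range (g i)) := fun i => by
    rw [(h2 i).linearMap_ker_eq]
  have hd : ∀ i, Module.finrank k (LinearMap.ker (f (i + 1))) = Module.finrank k (LinearMap.range (δ i)) := fun i => by
    rw [(h3 i).linearMap_ker_eq]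
  have ra : ∀ i, Module.finrank k (LinearMap.range (f i)) + Module.finrank k (LinearMap.ker (f i)) =
    Module.finrank k (a i) := fun i => LinearMap.finrank_range_add_finrank_ker (f i)
  have rb : ∀ i, Module.finrank k (LinearMap.range (g i)) + Module.finrank k (LinearMap.ker (g i)) =
    Module.finrank k (b i) := fun i => LinearMap.finrank_range_add_finrank_ker (g i)
  have rc : ∀ i, Module.finrank k (LinearMap.range (δ i)) + Module.finrank k (LinearMap.ker (δ i)) =
    Module.finrank k (c i) := fun i => LinearMap.finrank_range_add_finrank_ker (δ i)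
  induction B with
  | zero =>
    have k0 : Module.finrank k (LinearMap.ker (f 0)) = 0 := by
      rw [LinearMap.ker_eq_bot.mpr h0, finrank_bot]
    have e1 := ra 0
    have e2 := rb 0
    have e3 := rc 0
    have e4 := hf 0
    have e5 := hg 0
    rw [sum_range_one, pow_zero]
    omega
  | succ B ih =>
    rw [sum_range_succ, ih, pow_succ]
    have e1 := ra (B + 1)
    have e2 := rb (B + 1)
    have e3 := rc (B + 1)
    have e4 := hf (B + 1)
    have e5 := hg (B + 1)
    have e6 := hd B
    have key : (Module.finrank k (b (B + 1)) : ℤ) - Module.finrank k (a (B + 1)) - Module.finrank k (c (B + 1)) =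
        -(Module.finrank k (LinearMap.range (δ B)) : ℤ) - Module.finrank k (LinearMap.range (δ (B + 1))) := by
      omega
    rw [key]
    ring

end Alg

/-- A space with finite kernel and range is finite. -/
theorem finite_of_ker_range {M N : Type u} [AddCommGroup M] [Module k M] [AddCommGroup N] [Module k N] (φ : M →ₗ[k] N)
    (h1 : Module.Finite k (LinearMap.ker φ)) (h2 : Module.Finite k (LinearMap.range φ)) : Module.Finite k M := by
  have h3 : Module.Finite k (M ⧸ LinearMap.ker φ) := Module.Finite.equiv φ.quotKerEquivRange.symm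
  exact Module.Finite.of_submodule_quotient (LinearMap.ker φ)

/-- The Euler characteristic of a system, truncated. -/
noncomputable def chi (B : ℕ) (V : Sys k ι) : ℤ :=
  ∑ i ∈ range (B + 1), (-1 : ℤ) ^ i * (Module.finrank k (H V i) : ℤ)

/-- Finite dimensional cohomology. -/
def Fin' (V : Sys k ι) : Prop := ∀ i, Module.Finite k (H V i)

/-- Vanishing above `B`. -/
def Van (B : ℕ) (V : Sys k ι) : Prop := ∀ i, B < i → Subsingleton (H V i)

theorem chi_of_subsingleton (B : ℕ) {V : Sys k ι} (h : ∀ i, Subsingleton (H V i)) : chi B V = 0 := by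
  refine sum_eq_zero fun i _ => ?_
  have := h i
  rw [Module.finrank_zero_of_subsingleton, Nat.cast_zero, mul_zero]

theorem chi_congr (B : ℕ) {V W : Sys k ι} (h : ∀ i, Nonempty (H V i ≃ₗ[k] H W i)) : chi B V = chi B W := by
  refine sum_congr rfl fun i _ => ?_
  obtain ⟨e⟩ := h i
  rw [e.finrank_eq]

theorem Fin'.congr {V W : Sys k ι} (h : ∀ i, Nonempty (H V i ≃ₗ[k] H W i)) (hV : Fin' V) : Fin' W := fun i => by
  obtain ⟨e⟩ := h i
  have := hV i
  exact Module.Finite.equiv e

theorem Van.congr {B : ℕ} {V W : Sys k ι} (h : ∀ i, Nonempty (H V i ≃ₗ[k] H W i)) (hV : Van B V) : Van B W :=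
  fun i hi => by
    obtain ⟨e⟩ := h i
    have := hV i hi
    exact e.symm.toEquiv.subsingleton

section SES

variable {V' V V'' : Sys k ι} {f : Hom V' V} {g : Hom V V''} (h : IsSES f g)

include h

/-- The long exact sequence. -/
theorem exists_les : ∃ (F : ∀ i, H V' i →ₗ[k] H V i) (G : ∀ i, H V i →ₗ[k] H V'' i) (δ : ∀ i, H V'' i →ₗ[k] H V' (i + 1)),
    Function.Injective (F 0) ∧ (∀ i, Function.Exact (F i) (G i)) ∧ (∀ i, Function.Exact (G i) (δ i)) ∧
      ∀ i, Function.Exact (δ i) (F (i + 1)) := by
  refine ⟨fun i => (HomologicalComplex.homologyMap (cxMap f) i).hom,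
    fun i => (HomologicalComplex.homologyMap (cxMap g) i).hom,
    fun i => ((sc_shortExact h).δ i (i + 1) (by simp)).hom, h0_injective h.inj, fun i => ?_, fun i => ?_, fun i => ?_⟩
  · exact (ShortComplex.ShortExact.moduleCat_exact_iff_function_exact _).1 ((sc_shortExact h).homology_exact₂ i)
  · exact (ShortComplex.ShortExact.moduleCat_exact_iff_function_exact _).1
      ((sc_shortExact h).homology_exact₃ i (i + 1) (by simp))
  · exact (ShortComplex.ShortExact.moduleCat_exact_iff_function_exact _).1
      ((sc_shortExact h).homology_exact₁ i (i + 1) (by simp))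

/-- Additivity. -/
theorem chi_add (B : ℕ) (f1 : Fin' V') (f2 : Fin' V) (f3 : Fin' V'') (hB : Subsingleton (H V' (B + 1))) :
    chi B V = chi B V' + chi B V'' := by
  obtain ⟨F, G, δ, h0, h1, h2, h3⟩ := exists_les h
  have : ∀ i, Module.Finite k (H V' i) := f1
  have : ∀ i, Module.Finite k (H V i) := f2
  have : ∀ i, Module.Finite k (H V'' i) := f3
  have key := les_count (k := k) (a := fun i => H V' i) (b := fun i => H V i) (c := fun i => H V'' i) F G δ h0 h1 h2 h3 B
  have hr : Module.finrank k (LinearMap.range (δ B)) = 0 := Module.finrank_zero_of_subsingleton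
  rw [hr, Nat.cast_zero, mul_zero] at key
  simp only [mul_sub, sum_sub_distrib] at key
  unfold chi
  linarith

theorem fin_right (f1 : Fin' V') (f2 : Fin' V) : Fin' V'' := fun i => by
  obtain ⟨F, G, δ, h0, h1, h2, h3⟩ := exists_les h
  have : ∀ i, Module.Finite k (H V' i) := f1
  have : ∀ i, Module.Finite k (H V i) := f2
  have e : LinearMap.ker (δ i) = LinearMap.range (G i) := (h2 i).linearMap_ker_eq
  exact finite_of_ker_range (δ i) (by rw [e]; infer_instance) inferInstance

theorem fin_middle (f1 : Fin' V') (f3 : Fin' V'') : Fin' V := fun i => by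
  obtain ⟨F, G, δ, h0, h1, h2, h3⟩ := exists_les h
  have : ∀ i, Module.Finite k (H V' i) := f1
  have : ∀ i, Module.Finite k (H V'' i) := f3
  have e : LinearMap.ker (G i) = LinearMap.range (F i) := (h1 i).linearMap_ker_eq
  exact finite_of_ker_range (G i) (by rw [e]; infer_instance) inferInstance

theorem fin_left (f2 : Fin' V) (f3 : Fin' V'') : Fin' V' := fun i => by
  obtain ⟨F, G, δ, h0, h1, h2, h3⟩ := exists_les h
  have : ∀ i, Module.Finite k (H V i) := f2
  have : ∀ i, Module.Finite k (H V'' i) := f3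
  cases i with
  | zero => exact Module.Finite.of_injective (F 0) h0
  | succ i =>
    have e : LinearMap.ker (F (i + 1)) = LinearMap.range (δ i) := (h3 i).linearMap_ker_eq
    exact finite_of_ker_range (F (i + 1)) (by rw [e]; infer_instance) inferInstance

theorem van_right {B : ℕ} (f1 : Van B V') (f2 : Van B V) : Van B V'' := fun i hi =>
  subsingleton_right h i (f2 i hi) (f1 (i + 1) (by omega))

theorem van_middle {B : ℕ} (f1 : Van B V') (f3 : Van B V'') : Van B V := fun i hi =>
  subsingleton_middle h i (f1 i hi) (f3 i hi)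

end SES

section Pi

/-- The first coordinate of a power. -/
def head (V : Sys k ι) (n : ℕ) (I : Set ι) : V.M I →ₗ[k] (pi fun _ : Fin (n + 1) => V).M I where
  toFun x := (Fin.cons x fun _ => 0 : ∀ _ : Fin (n + 1), V.M I)
  map_add' x y := by
    funext j
    rcases Fin.eq_zero_or_eq_succ j with rfl | ⟨j, rfl⟩
    · rfl
    · exact (add_zero (0 : V.M I)).symm
  map_smul' c x := by
    funext j
    rcases Fin.eq_zero_or_eq_succ j with rfl | ⟨j, rfl⟩
    · rfl
    · exact (smul_zero (A := V.M I) c).symm

theorem head_zero (V : Sys k ι) (n : ℕ) (I : Set ι) (x : V.M I) : head V n I x 0 = x := rfl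

theorem head_succ (V : Sys k ι) (n : ℕ) (I : Set ι) (x : V.M I) (j : Fin n) : head V n I x j.succ = 0 := rfl

/-- The first coordinate of a power. -/
def headHom (V : Sys k ι) (n : ℕ) : Hom V (pi fun _ : Fin (n + 1) => V) where
  app I := head V n I
  nat {I J} h x := by
    funext j
    refine Eq.trans ?_ (pi_res (fun _ : Fin (n + 1) => V) h _ j).symm
    rcases Fin.eq_zero_or_eq_succ j with rfl | ⟨j, rfl⟩
    · rfl
    · exact (map_zero (V.res h)).symm

/-- Forgetting the first coordinate. -/
def tailHom (V : Sys k ι) (n : ℕ) : Hom (pi fun _ : Fin (n + 1) => V) (pi fun _ : Fin n => V) where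
  app _ := LinearMap.pi fun j => LinearMap.proj j.succ
  nat _ _ := rfl

theorem isSES_pi (V : Sys k ι) (n : ℕ) : IsSES (headHom V n) (tailHom V n) where
  inj I _ x y h := by
    have h1 := congrFun h 0
    exact h1
  exact I _ x := by
    constructor
    · intro hx
      refine ⟨x 0, ?_⟩
      funext j
      rcases Fin.eq_zero_or_eq_succ j with rfl | ⟨j, rfl⟩
      · rfl
      · exact (congrFun hx j).symm
    · rintro ⟨y, rfl⟩
      funext j
      rfl
  surj I _ y := ⟨(Fin.cons 0 y : ∀ _ : Fin (n + 1), V.M I), rfl⟩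

theorem subsingleton_pi_zero (V : Sys k ι) (i : ℕ) : Subsingleton (H (pi fun _ : Fin 0 => V) i) :=
  subsingleton_pi _ i fun j => j.elim0

theorem pi_pow {B : ℕ} {V : Sys k ι} (hf : Fin' V) (hv : Van B V) (n : ℕ) :
    Fin' (pi fun _ : Fin n => V) ∧ Van B (pi fun _ : Fin n => V) ∧ chi B (pi fun _ : Fin n => V) = n * chi B V := by
  induction n with
  | zero =>
    refine ⟨fun i => ?_, fun i _ => subsingleton_pi_zero V i, ?_⟩
    · have := subsingleton_pi_zero V i
      infer_instance
    · rw [chi_of_subsingleton B (subsingleton_pi_zero V), Nat.cast_zero, zero_mul]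
  | succ n ih =>
    obtain ⟨h1, h2, h3⟩ := ih
    have e := isSES_pi V n
    refine ⟨fin_middle e hf h1, van_middle e hv h2, ?_⟩
    rw [chi_add e B hf (fin_middle e hf h1) h1 (hv _ (by omega)), h3]
    push_cast
    ring

/-- Reindexing. -/
theorem nonempty_pi_congr {κ κ' : Type} (e : κ ≃ κ') (V : Sys k ι) (i : ℕ) :
    Nonempty (H (pi fun _ : κ => V) i ≃ₗ[k] H (pi fun _ : κ' => V) i) :=
  nonempty_equiv_of_bijective
    ({ app := fun I => LinearMap.pi fun j => LinearMap.proj (e.symm j)
       nat := fun _ _ => rfl } : Hom (pi fun _ : κ => V) (pi fun _ : κ' => V))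
    (fun I _ => by
      constructor
      · intro x y h
        funext j
        have h1 := congrFun h (e j)
        change x (e.symm (e j)) = y (e.symm (e j)) at h1
        rwa [Equiv.symm_apply_apply] at h1
      · intro y
        refine ⟨fun j => y (e j), ?_⟩
        funext j
        change y (e (e.symm j)) = y j
        rw [Equiv.apply_symm_apply]) i

end Pi

section N0

variable [LinearOrder ι] [Fintype ι] (𝔊 : GSys k ι)

theorem N0_facts {B : ℕ} (q : ℕ) (m : ℤ) (hf : Fin' (O 𝔊 (m - q))) (hv : Van B (O 𝔊 (m - q))) :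
    Fin' (N 𝔊 0 q m) ∧ Van B (N 𝔊 0 q m) ∧
      chi B (N 𝔊 0 q m) = (Fintype.card ι).choose q * chi B (O 𝔊 (m - q)) := by
  have hcard : Fintype.card {s : Finset ι // s.card = q} = (Fintype.card ι).choose q :=
    Fintype.card_finset_len q
  have e : ∀ i, Nonempty (H (pi fun _ : Fin ((Fintype.card ι).choose q) => O 𝔊 (m - q)) i ≃ₗ[k] H (N 𝔊 0 q m) i) := by
    intro i
    obtain ⟨e1⟩ := nonempty_coord 𝔊 q m i
    obtain ⟨e2⟩ := nonempty_pi_congr (Fintype.equivFinOfCardEq hcard) (O 𝔊 (m - q)) i
    exact ⟨(e1.trans e2).symm⟩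
  obtain ⟨h1, h2, h3⟩ := pi_pow hf hv ((Fintype.card ι).choose q)
  exact ⟨h1.congr e, h2.congr e, (chi_congr B e).symm.trans h3⟩

end N0

end K568.Chi
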