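import Groth.Agent.LefPen.K568.ChiP
import Groth.Agent.LefPen.K568.HypCI
import Groth.Agent.Lefpen.H721.OmGlue

/-!
# Euler characteristics on a smooth hypersurface
-/

set_option autoImplicit false
universe u
open CategoryTheory CategoryTheory.Limits AlgebraicGeometry Opposite TopologicalSpace Finset

namespace K568.ChiHyp

open K568.Chi K568.ChiP K568.Bott K568.TwGeo K568.GenSer LefPen
open Groth.Agent.Lefpen.H722.Sys Groth.Agent.Lefpen.H722.Ring Groth.Agent.Lefpen.H722.GSys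
open Groth.Agent.Lefpen.H722.Hodge Groth.Agent.Lefpen.H722.Phi Groth.Agent.Lefpen.H278.RingIso
open Groth.Agent.Lefpen.H718.Chart
open Groth.Agent.Lefpen.H728.OcSys hiding A
open Groth.Agent.Lefpen.H728.LauSys
open Groth.Agent.Lefpen.H728.OHypCI

variable {k : Type u} [Field k] {n a : ℕ}

/-- The degrees. -/
abbrev dg (a : ℕ) : Fin 1 → ℕ := fun _ => a

/-- `O(m)` on projective space and Laurent polynomials. -/
theorem lau_O (N : ℕ) (m : ℤ) (i : ℕ) : Nonempty (H (O (pG N k) m) i ≃ₗ[k] H (lau k (Fin (N + 1)) m) i) := by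
  obtain ⟨e1⟩ := nonempty_cmp (Gp (G0 N k)) a0 ha0 (hG0 N k) (hΦ0 N k) m i
  obtain ⟨e2⟩ := nonempty_base_equiv (Gp (G0 N k)) a0 m i
  exact ⟨e1.symm.trans e2.symm⟩

section Hyp

variable (ha : 1 ≤ a) (F : ∀ _ : Fin 1, Form (n + 1) k a) [SmoothOfRelativeDimension n (yStr (a := dg a) F)]

/-- The system. -/
noncomputable abbrev hG : GSys k (Fin (n + 1 + 1)) := ciG (n := n) (a := dg a) (fun _ => ha) F

theorem hG_d : (hG ha F).d = 1 := rfl

theorem hG_a : (hG ha F).a 0 = a := aZ_apply (dg a) 0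

theorem A_hG : A (hG ha F) 1 = a := by
  unfold A
  rw [Finset.sum_range_one, hG_a]

theorem ht : ((1 : ℕ) : ℕ∞) ≤ (Ideal.span (Set.range fun i => (F i).1)).height :=
  Groth.Agent.Lefpen.H718.JacCI.le_height_ci (a := dg a) F (n := n) rfl

include ha in
theorem ses_O (m : ℤ) : ∃ (f : Hom (Oc (Gp (a := dg a) F) (dg a) 0 (m - a)) (Oc (Gp (a := dg a) F) (dg a) 0 m))
    (g : Hom (Oc (Gp (a := dg a) F) (dg a) 0 m) (Oc (Gp (a := dg a) F) (dg a) 1 m)), IsSES f g :=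
  ⟨_, _, Groth.Agent.Lefpen.H728.OcSys.isSES (Gp (a := dg a) F) (dg a) (fun _ => ha) (fun j => homogeneous_form (F j))
    (ht F) 0 (m - a) m (by ring)⟩

theorem O_facts (m : ℤ) : Fin' (O (hG ha F) m) ∧ Van (n + 1) (O (hG ha F) m) ∧
    chi (n + 1) (O (hG ha F) m) = b (n + 1) m - b (n + 1) (m - a) := by
  obtain ⟨f, g, h⟩ := ses_O ha F m
  have e0 : ∀ (m : ℤ) (i : ℕ), Nonempty (H (O (pG (n + 1) k) m) i ≃ₗ[k] H (Oc (Gp (a := dg a) F) (dg a) 0 m) i) := by
    intro m i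
    obtain ⟨e1⟩ := lau_O (k := k) (n + 1) m i
    obtain ⟨e2⟩ := nonempty_base_equiv (Gp (a := dg a) F) (dg a) m i
    exact ⟨e1.trans e2⟩
  have e1 : ∀ i : ℕ, Nonempty (H (Oc (Gp (a := dg a) F) (dg a) 1 m) i ≃ₗ[k] H (O (hG ha F) m) i) := fun i =>
    nonempty_cmp (Gp (a := dg a) F) (dg a) (fun _ => ha) (fun j => homogeneous_form (F j)) (hG ha F).exists_Φ m i
  have f1 : ∀ m, Fin' (Oc (Gp (a := dg a) F) (dg a) 0 m) := fun m => (fin_O (n + 1) k m).congr (e0 m)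
  have v1 : ∀ m, Van (n + 1) (Oc (Gp (a := dg a) F) (dg a) 0 m) := fun m => (van_O (n + 1) k m).congr (e0 m)
  have c1 : ∀ m, chi (n + 1) (Oc (Gp (a := dg a) F) (dg a) 0 m) = b (n + 1) m := fun m =>
    (chi_congr _ (e0 m)).symm.trans (chi_O (n + 1) k (by omega) m)
  have f2 := fin_right h (f1 _) (f1 _)
  refine ⟨f2.congr e1, (van_right h (v1 _) (v1 _)).congr e1, ?_⟩
  rw [← chi_congr _ e1]
  have h2 := chi_add h (n + 1) (f1 _) (f1 _) f2 (v1 _ _ (by omega))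
  rw [c1, c1] at h2
  linarith

include ha in
theorem exists_numbers : ∃ (f : ℕ → ℤ) (h : ℕ → ℤ → ℤ), f 0 = 0 ∧ (∀ q, f (q + 1) + f q = h (q + 1) a) ∧
    (∀ q, n + 2 ≤ q → f q = 0) ∧ (∀ t, h 0 t = 0) ∧
    (∀ q t, h (q + 1) t = (n + 2).choose q * (b (n + 1) (t - a - q) - b (n + 1) (t - a - q - a)) - h q (t - a)) ∧
    (∀ t, h (n + 3) t = 0) ∧
    ∀ (_ : (Y (a := dg a) F).Over (Spec (CommRingCat.of k)))
      (_ : (Y (a := dg a) F) ↘ Spec (CommRingCat.of k) = yStr (a := dg a) F) (p : ℕ) (L : (Y (a := dg a) F).Modules)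
      (_ : ExtPow.IsExtPow p (Omega.sheaf (yStr (a := dg a) F)) L),
      ∑ q ∈ range (n + 1), (-1 : ℤ) ^ q * (Module.finrank k (Coh.HH (Y (a := dg a) F) L q) : ℤ) = f (p + 1) := by
  have hO := O_facts ha F
  have hf : ∀ m : ℤ, Fin' (O (hG ha F) m) := fun m => (hO m).1
  have hv : ∀ m : ℤ, Van (n + 1) (O (hG ha F) m) := fun m => (hO m).2.1
  have hfN : ∀ (q : ℕ) (m : ℤ), Fin' (N (hG ha F) (hG ha F).d q m) := fun q m => fin_N1 (hG_d ha F) hf q m
  have hvN : ∀ (q : ℕ) (m : ℤ), Van (n + 1) (N (hG ha F) (hG ha F).d q m) := fun q m => van_N1 (hG_d ha F) hf hv q m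
  refine ⟨fun q => chi (n + 1) (Z (hG ha F) q a), fun q t => chi (n + 1) (N (hG ha F) 1 q t), ?_, fun q => ?_,
    fun q hq => ?_, fun t => chi_N1_zero (hG_d ha F) t, fun q t => ?_, fun t => ?_, ?_⟩
  · change chi (n + 1) (Z (hG ha F) 0 a) = 0
    rw [chi_congr (n + 1) (nonempty_Z_equiv_N (hG ha F) 0 a (Nat.zero_le _))]
    exact chi_N1_zero (hG_d ha F) _
  · exact chi_Z hfN hvN q a
  · exact chi_of_subsingleton _ (Z_zero_of_card q a (by rw [Fintype.card_fin]; exact hq))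
  · have h1 := chi_N1 (hG_d ha F) hf hv q t
    rw [Fintype.card_fin, hG_a, (hO _).2.2] at h1
    exact h1
  · exact chi_N1_big _ t (by rw [Fintype.card_fin]; omega)
  · intro hOv hover p L hL
    have e : ∀ i, Nonempty (H (Z (hG ha F) (p + 1) a) i ≃ₗ[k] Coh.HH (Y (a := dg a) F) L i) := by
      intro i
      have h1 := Groth.Agent.Lefpen.H721.OmGlue.nonempty_HH_Z (n := n) (a := dg a) (fun _ => ha) F hover hL i
      have h2 : A (ciG (n := n) (a := dg a) (fun _ => ha) F) 1 = a := A_hG ha F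
      rw [h2] at h1
      exact h1
    have hs : Subsingleton (Coh.HH (Y (a := dg a) F) L (n + 1)) :=
      Groth.Agent.Lefpen.H278.BigVanish.subsingleton_HH (a := dg a) F n L (n + 1) (by omega)
    change _ = chi (n + 1) (Z (hG ha F) (p + 1) a)
    unfold chi
    rw [sum_range_succ _ (n + 1)]
    have h3 : Module.finrank k (H (Z (hG ha F) (p + 1) a) (n + 1)) = 0 := by
      obtain ⟨e'⟩ := e (n + 1)
      rw [e'.finrank_eq]
      exact Module.finrank_zero_of_subsingleton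
    rw [h3, Nat.cast_zero, mul_zero, add_zero]
    refine sum_congr rfl fun q _ => ?_
    obtain ⟨e'⟩ := e q
    rw [e'.finrank_eq]

end Hyp

end K568.ChiHyp
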