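import Mathlib.RingTheory.PowerSeries.Basic
import Mathlib.RingTheory.PowerSeries.Inverse
import Mathlib.Algebra.Polynomial.Basic
import Mathlib.Algebra.Polynomial.Coeff
import Mathlib.Data.Nat.Choose.Sum
import Mathlib.Tactic.Ring
import Mathlib.Tactic.LinearCombination

/-!
# The generating series computation for hypersurfaces
-/

set_option autoImplicit false
universe u

open Finset PowerSeries

namespace K568.GenSer

/-- `1 - X` as a unit. -/
theorem isUnit_one_sub {A : Type*} [CommRing A] : IsUnit (1 - X : A⟦X⟧) := by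
  rw [PowerSeries.isUnit_iff_constantCoeff]
  simp

theorem isUnit_one_add {A : Type*} [CommRing A] (y : A⟦X⟧) : IsUnit (1 + y * X : A⟦X⟧) := by
  rw [PowerSeries.isUnit_iff_constantCoeff]
  simp

/-- `1 - X`. -/
noncomputable def P1 (A : Type*) [CommRing A] : (A⟦X⟧)ˣ := (isUnit_one_sub (A := A)).unit

/-- `1 + y X`. -/
noncomputable def P2 {A : Type*} [CommRing A] (y : A) : (A⟦X⟧)ˣ := (isUnit_one_add (C y)).unit

theorem P1_val (A : Type*) [CommRing A] : ((P1 A : (A⟦X⟧)ˣ) : A⟦X⟧) = 1 - X := rfl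

theorem P2_val {A : Type*} [CommRing A] (y : A) : ((P2 y : (A⟦X⟧)ˣ) : A⟦X⟧) = 1 + C y * X := rfl

theorem coeff_succ_P1_mul {A : Type*} [CommRing A] (V : A⟦X⟧) (N : ℕ) :
    coeff (N + 1) ((1 - X) * V) = coeff (N + 1) V - coeff N V := by
  rw [sub_mul, one_mul, map_sub, coeff_succ_X_mul]

theorem coeff_succ_P2_mul {A : Type*} [CommRing A] (y : A) (V : A⟦X⟧) (N : ℕ) :
    coeff (N + 1) ((1 + C y * X) * V) = coeff (N + 1) V + y * coeff N V := by
  rw [add_mul, one_mul, map_add, mul_assoc, coeff_C_mul, coeff_succ_X_mul]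

/-- The Hilbert polynomial of `P^N`. -/
noncomputable def b (N : ℕ) (m : ℤ) : ℤ := coeff N (((P1 ℤ) ^ (-(m + 1)) : (ℤ⟦X⟧)ˣ) : ℤ⟦X⟧)

theorem b_rec (N : ℕ) (m : ℤ) : b (N + 1) (m - 1) = b (N + 1) m - b N m := by
  unfold b
  have h1 : (P1 ℤ) ^ (-(m - 1 + 1)) = P1 ℤ * (P1 ℤ) ^ (-(m + 1)) := by
    rw [← zpow_one_add]
    congr 1
    ring
  rw [h1, Units.val_mul, P1_val, coeff_succ_P1_mul]

theorem b_zero (m : ℤ) : b 0 m = 1 := by
  unfold b
  have h1 : Units.map (constantCoeff (R := ℤ) : ℤ⟦X⟧ →* ℤ) (P1 ℤ) = 1 := by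
    apply Units.ext
    change constantCoeff (1 - X : ℤ⟦X⟧) = 1
    simp
  have h2 : Units.map (constantCoeff (R := ℤ) : ℤ⟦X⟧ →* ℤ) ((P1 ℤ) ^ (-(m + 1))) = 1 := by
    rw [map_zpow, h1, one_zpow]
  have h3 := congrArg (Units.val (α := ℤ)) h2
  rw [coeff_zero_eq_constantCoeff]
  exact h3

theorem b_neg_one (N : ℕ) : b (N + 1) (-1) = 0 := by
  unfold b
  have h1 : (P1 ℤ) ^ (-((-1 : ℤ) + 1)) = 1 := by
    rw [neg_add_cancel, neg_zero, zpow_zero]
  rw [h1, Units.val_one, coeff_one, if_neg (Nat.succ_ne_zero N)]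

theorem b_at_zero (N : ℕ) : b N 0 = 1 := by
  induction N with
  | zero => exact b_zero 0
  | succ N ih =>
    have h1 := b_rec N 0
    rw [zero_sub, b_neg_one, ih] at h1
    linarith

theorem b_neg (s : ℕ) : ∀ N : ℕ, s + 1 ≤ N → b N (-(s + 1 : ℕ)) = 0 := by
  induction s with
  | zero =>
    intro N hN
    obtain ⟨N, rfl⟩ : ∃ M, N = M + 1 := ⟨N - 1, by omega⟩
    exact b_neg_one N
  | succ s ih =>
    intro N hN
    obtain ⟨N, rfl⟩ : ∃ M, N = M + 1 := ⟨N - 1, by omega⟩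
    have h1 := b_rec N (-(s + 1 : ℕ))
    rw [ih (N + 1) (by omega), ih N (by omega), sub_zero] at h1
    rw [← h1]
    congr 1

theorem b_neg_top (N : ℕ) : b N (-(N + 1 : ℕ)) = (-1) ^ N := by
  induction N with
  | zero => exact b_zero _
  | succ N ih =>
    have h1 := b_rec N (-(N + 1 : ℕ))
    rw [ih, b_neg N (N + 1) le_rfl, zero_sub] at h1
    rw [pow_succ, mul_neg_one, ← h1]
    congr 1

/-- The Koszul relation. -/
theorem b_koszul (N : ℕ) (m : ℤ) :
    ∑ s ∈ range (N + 2), (-1 : ℤ) ^ s * (((N + 1).choose s : ℤ) * b N (m - s)) = 0 := by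
  have h1 : ∀ s : ℕ, (-1 : ℤ) ^ s * (((N + 1).choose s : ℤ) * b N (m - s)) =
      coeff N ((((P1 ℤ) ^ (-(m + 1)) : (ℤ⟦X⟧)ˣ) : ℤ⟦X⟧) * ((-(1 - X)) ^ s * 1 ^ (N + 1 - s) * ((N + 1).choose s : ℤ⟦X⟧))) := by
    intro s
    have h2 : (P1 ℤ) ^ (-(m - s + 1)) = (P1 ℤ) ^ (-(m + 1)) * (P1 ℤ) ^ s := by
      rw [← zpow_natCast, ← zpow_add]
      congr 1
      ring
    have h3 : ((-1 : ℤ⟦X⟧) ^ s) = C ((-1 : ℤ) ^ s) := by
      rw [map_pow, map_neg, map_one]
    have h4 : ((N + 1).choose s : ℤ⟦X⟧) = C ((N + 1).choose s : ℤ) := by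
      rw [map_natCast]
    unfold b
    rw [h2, Units.val_mul, Units.val_pow_eq_pow_val, P1_val, neg_pow (1 - X : ℤ⟦X⟧) s, one_pow, mul_one, h3, h4]
    have h5 : (((P1 ℤ) ^ (-(m + 1)) : (ℤ⟦X⟧)ˣ) : ℤ⟦X⟧) * (C ((-1 : ℤ) ^ s) * (1 - X) ^ s * C ((N + 1).choose s : ℤ)) =
        C ((-1 : ℤ) ^ s) * (C ((N + 1).choose s : ℤ) * ((((P1 ℤ) ^ (-(m + 1)) : (ℤ⟦X⟧)ˣ) : ℤ⟦X⟧) * (1 - X) ^ s)) := by
      ring
    rw [h5, coeff_C_mul, coeff_C_mul]
  rw [sum_congr rfl fun s _ => h1 s, ← map_sum, ← mul_sum, ← add_pow]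
  have h6 : (-(1 - X) + 1 : ℤ⟦X⟧) = X := by ring
  rw [h6, mul_comm, coeff_X_pow_mul', if_neg (by omega)]

/-- Uniqueness for the Koszul relation. -/
theorem koszul_unique (N : ℕ) (f : ℤ → ℤ)
    (h : ∀ m, ∑ s ∈ range (N + 2), (-1 : ℤ) ^ s * (((N + 1).choose s : ℤ) * f (m - s)) = 0)
    (h0 : ∀ m : ℤ, -(N : ℤ) ≤ m → m ≤ 0 → f m = 0) (m : ℤ) : f m = 0 := by
  have up : ∀ n : ℕ, ∀ j : ℕ, j ≤ n → f j = 0 := by
    intro n
    induction n with
    | zero =>
      intro j hj
      obtain rfl : j = 0 := by omega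
      exact h0 _ (by simp) (by simp)
    | succ n ih =>
      intro j hj
      rcases Nat.lt_or_ge j (n + 1) with hj' | hj'
      · exact ih j (by omega)
      · obtain rfl : j = n + 1 := by omega
        have h1 := h ((n + 1 : ℕ) : ℤ)
        rw [sum_range_succ'] at h1
        rw [sum_eq_zero] at h1
        · simpa using h1
        · intro s hs
          have hs' := mem_range.1 hs
          have h2 : f (((n + 1 : ℕ) : ℤ) - ((s + 1 : ℕ) : ℤ)) = 0 := by
            rcases Nat.lt_or_ge n s with hns | hns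
            · refine h0 _ ?_ ?_ <;> push_cast <;> omega
            · have h3 := ih (n - s) (by omega)
              rw [Nat.cast_sub hns] at h3
              rw [← h3]
              congr 1
              push_cast
              ring
          rw [h2, mul_zero, mul_zero]
  have down : ∀ n : ℕ, ∀ j : ℕ, j ≤ n → f (-(j : ℤ)) = 0 := by
    intro n
    induction n with
    | zero =>
      intro j hj
      obtain rfl : j = 0 := by omega
      exact h0 _ (by simp) (by simp)
    | succ n ih =>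
      intro j hj
      rcases Nat.lt_or_ge j (n + 1) with hj' | hj'
      · exact ih j (by omega)
      · obtain rfl : j = n + 1 := by omega
        rcases Nat.lt_or_ge N (n + 1) with hN | hN
        · have h1 := h (-((n + 1 : ℕ) : ℤ) + (N + 1 : ℕ))
          rw [sum_range_succ, sum_eq_zero] at h1
          · have h2 : -((n + 1 : ℕ) : ℤ) + (N + 1 : ℕ) - ((N + 1 : ℕ) : ℤ) = -((n + 1 : ℕ) : ℤ) := by ring
            rw [h2, Nat.choose_self, Nat.cast_one, one_mul, zero_add] at h1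
            rcases mul_eq_zero.1 h1 with h3 | h3
            · exact absurd h3 (pow_ne_zero _ (by norm_num))
            · exact h3
          · intro s hs
            have hs' := mem_range.1 hs
            have h2 : f (-((n + 1 : ℕ) : ℤ) + (N + 1 : ℕ) - (s : ℤ)) = 0 := by
              have h3 := ih (n + s - N) (by omega)
              rw [← h3]
              congr 1
              have h4 : ((n + s - N : ℕ) : ℤ) = n + s - N := by
                rw [Nat.cast_sub (by omega)]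
                push_cast
                ring
              rw [h4]
              push_cast
              ring
            rw [h2, mul_zero, mul_zero]
        · refine h0 _ ?_ ?_ <;> push_cast <;> omega
  obtain ⟨n, rfl | rfl⟩ := m.eq_nat_or_neg
  · exact up n n le_rfl
  · exact down n n le_rfl

theorem eq_b (N : ℕ) (f : ℤ → ℤ)
    (h : ∀ m, ∑ s ∈ range (N + 2), (-1 : ℤ) ^ s * (((N + 1).choose s : ℤ) * f (m - s)) = 0)
    (h0 : f 0 = 1) (h1 : ∀ m : ℤ, -(N : ℤ) ≤ m → m < 0 → f m = 0) (m : ℤ) : f m = b N m := by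
  have key := koszul_unique N (fun m => f m - b N m) (fun m => ?_) (fun m hm hm' => ?_) m
  · exact sub_eq_zero.1 key
  · simp only [mul_sub, sum_sub_distrib]
    rw [h m, b_koszul, sub_zero]
  · rcases eq_or_lt_of_le hm' with rfl | hm'
    · simp only [h0, b_at_zero, sub_self]
    · obtain ⟨s, rfl⟩ : ∃ s : ℕ, m = -((s + 1 : ℕ) : ℤ) := ⟨(-m - 1).toNat, by push_cast; omega⟩
      simp only [h1 _ hm hm', zero_sub, neg_eq_zero]
      exact b_neg s N (by push_cast at hm; omega)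

end K568.GenSer
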