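import Groth.Agent.LefPen.K568.ChiSys
import Groth.Agent.LefPen.K568.GenSer
import Groth.Agent.LefPen.K568.Bott
import Groth.Agent.S0038
import Groth.Agent.CurvesB.UnitCoh

/-!
# The Euler characteristic of `O(m)` on projective space
-/

set_option autoImplicit false
universe u
open CategoryTheory CategoryTheory.Limits AlgebraicGeometry Opposite TopologicalSpace Finset

namespace K568.ChiP

open K568.Chi K568.Bott K568.BottSys K568.TwSys K568.TwGeo K568.OmSec K568.GenSer LefPen
open Groth.Agent.Lefpen.H722.Sys Groth.Agent.Lefpen.H722.Ring Groth.Agent.Lefpen.H722.GSys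
open Groth.Agent.Lefpen.H722.Hodge Groth.Agent.Lefpen.H278.RingIso

variable (r : ℕ) (k : Type u) [Field k]

theorem fin_O (m : ℤ) : Fin' (O (pG r k) m) := fun i => by
  let _ : (CohB1.ProjSpace r k).Over (Spec (CommRingCat.of k)) := ⟨CohB1.ProjSpace.toSpec r k⟩
  have hq : Coh.IsQCoh (Coh.structureModule (CohB1.ProjSpace r k)) := Groth.Agent.PerfA.QCohSerre.isQCoh_unit _
  obtain ⟨τ⟩ := nonempty_pTw (N := r) (k := k) m
  obtain ⟨e⟩ := nonempty_tw (oSec (pData r k)) hq m i rfl
  have hc : Coh.IsCoh (CohB1.tensorMod (Coh.structureModule (CohB1.ProjSpace r k)) (Twist.twistProjSpace r k m)) :=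
    Groth.Agent.Fga.TwistCoh.isCoh_tensor (Groth.Agent.CurvesB.UnitCoh.isCoh_structureModule _) τ.inv
  have h1 : Module.Finite k (Coh.HH (CohB1.ProjSpace r k)
    (CohB1.tensorMod (Coh.structureModule (CohB1.ProjSpace r k)) (Twist.twistProjSpace r k m)) i) :=
    Groth.Agent.S0038.result r k _ hc i
  have h2 : Module.Finite k (H ((oMod (Gp (G0 r k))).sys (0 + m)) i) := Module.Finite.equiv e.symm
  rw [zero_add] at h2
  exact h2

theorem van_O (m : ℤ) : Van r (O (pG r k) m) := fun i hi => big_O m i hi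

theorem fin_N (q : ℕ) (m : ℤ) : Fin' (N (pG r k) (pG r k).d q m) :=
  (N0_facts (pG r k) q m (fin_O r k _) (van_O r k _)).1

theorem van_N (q : ℕ) (m : ℤ) : Van r (N (pG r k) (pG r k).d q m) :=
  (N0_facts (pG r k) q m (fin_O r k _) (van_O r k _)).2.1

theorem chi_N (q : ℕ) (m : ℤ) : chi r (N (pG r k) (pG r k).d q m) =
    ((r + 1).choose q : ℤ) * chi r (O (pG r k) (m - q)) := by
  have h := (N0_facts (pG r k) q m (fin_O r k _) (van_O r k _)).2.2
  rw [Fintype.card_fin] at h
  exact h

/-- The Koszul relation. -/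
theorem koszul (hN : 1 ≤ r) (m : ℤ) :
    ∑ s ∈ range (r + 2), (-1 : ℤ) ^ s * (((r + 1).choose s : ℤ) * chi r (O (pG r k) (m - s))) = 0 := by
  have h1 : ∀ q : ℕ, chi r (Z (pG r k) (q + 1) m) + chi r (Z (pG r k) q m) =
      ((r + 1).choose (q + 1) : ℤ) * chi r (O (pG r k) (m - ((q + 1 : ℕ) : ℤ))) := fun q => by
    rw [chi_Z (fin_N r k) (van_N r k), chi_N]
  have h2 : ∀ c : ℕ, ∑ q ∈ range c, (-1 : ℤ) ^ q * (chi r (Z (pG r k) (q + 1) m) + chi r (Z (pG r k) q m)) =
      chi r (Z (pG r k) 0 m) - (-1) ^ c * chi r (Z (pG r k) c m) := by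
    intro c
    induction c with
    | zero => simp
    | succ c ih =>
      rw [sum_range_succ, ih, pow_succ]
      ring
  have h3 : chi r (Z (pG r k) (r + 1) m) = 0 :=
    chi_of_subsingleton r (Z_zero_of_card (r + 1) m (by rw [Fintype.card_fin]))
  have h4 : chi r (Z (pG r k) 0 m) = chi r (O (pG r k) m) := chi_congr r (Z_zero (pHyp hN) m)
  have h5 := h2 (r + 1)
  rw [h3, h4, mul_zero, sub_zero] at h5
  rw [sum_range_succ', Nat.choose_zero_right, pow_zero, Nat.cast_one, one_mul, one_mul, Nat.cast_zero, sub_zero, ← h5,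
    ← sum_add_distrib]
  refine sum_eq_zero fun q _ => ?_
  rw [h1, pow_succ]
  ring

theorem chi_O (hN : 1 ≤ r) (m : ℤ) : chi r (O (pG r k) m) = b r m := by
  refine eq_b r (fun m => chi r (O (pG r k) m)) (koszul r k hN) ?_ ?_ m
  · change chi r (O (pG r k) 0) = 1
    unfold chi
    rw [sum_range_succ', sum_eq_zero]
    · rw [h0_pG r k hN]
      simp
    · intro i hi
      have hi' := mem_range.1 hi
      have h1 : Subsingleton (H (O (pG r k) 0) (i + 1)) := by
        rcases eq_or_ne (i + 1) r with h | h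
        · rw [h]
          exact (pHyp (k := k) hN).top 0 (by omega)
        · exact (pHyp (k := k) hN).mid 0 (i + 1) (by omega) h
      rw [Module.finrank_zero_of_subsingleton, Nat.cast_zero, mul_zero]
  · intro m hm hm'
    refine chi_of_subsingleton r fun i => ?_
    rcases Nat.eq_zero_or_pos i with rfl | hi
    · exact (pHyp (k := k) hN).low m hm'
    · rcases eq_or_ne i r with h | h
      · rw [h]
        exact (pHyp (k := k) hN).top m (by omega)
      · exact (pHyp (k := k) hN).mid m i hi h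

end K568.ChiP
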