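import Groth.Agent.LefPen.K568.Chi

/-!
# Euler characteristics of the systems of forms
-/

set_option autoImplicit false
universe u

open Finset

namespace K568.Chi

open Groth.Agent.Lefpen.H722.Sys Groth.Agent.Lefpen.H722.GSys

variable {k : Type u} [Field k] {ι : Type} [LinearOrder ι] [Fintype ι] {𝔊 : GSys k ι} {B : ℕ}

section Z

variable (hf : ∀ (q : ℕ) (m : ℤ), Fin' (N 𝔊 𝔊.d q m)) (hv : ∀ (q : ℕ) (m : ℤ), Van B (N 𝔊 𝔊.d q m))

include hf in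
theorem fin_Z (q : ℕ) (m : ℤ) : Fin' (Z 𝔊 q m) := by
  induction q with
  | zero =>
    refine (hf 0 m).congr fun i => ?_
    obtain ⟨e⟩ := nonempty_Z_equiv_N 𝔊 0 m (Nat.zero_le _) i
    exact ⟨e.symm⟩
  | succ q ih => exact fin_left (isSES_Z 𝔊 q m) (hf _ _) ih

theorem Z_zero_of_card (q : ℕ) (m : ℤ) (hq : Fintype.card ι ≤ q) (i : ℕ) : Subsingleton (H (Z 𝔊 q m) i) :=
  subsingleton_Z_of_card_le 𝔊 q m hq i

include hv in
theorem van_Z (q : ℕ) (m : ℤ) : Van B (Z 𝔊 q m) := by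
  have key : ∀ t q : ℕ, Fintype.card ι ≤ q + t → Van B (Z 𝔊 q m) := by
    intro t
    induction t with
    | zero => intro q hq i _; exact Z_zero_of_card q m hq i
    | succ t ih => intro q hq; exact van_right (isSES_Z 𝔊 q m) (ih (q + 1) (by omega)) (hv _ _)
  exact key (Fintype.card ι) q (by omega)

include hf hv in
theorem chi_Z (q : ℕ) (m : ℤ) : chi B (Z 𝔊 (q + 1) m) + chi B (Z 𝔊 q m) = chi B (N 𝔊 𝔊.d (q + 1) m) :=
  (chi_add (isSES_Z 𝔊 q m) B (fin_Z hf _ _) (hf _ _) (fin_Z hf _ _) (van_Z hv _ _ _ (by omega))).symm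

end Z

section N1

variable (hd : 𝔊.d = 1) (hf : ∀ m : ℤ, Fin' (O 𝔊 m)) (hv : ∀ m : ℤ, Van B (O 𝔊 m))

include hd

theorem N1_zero (m : ℤ) (i : ℕ) : Subsingleton (H (N 𝔊 1 0 m) i) :=
  subsingleton_N_of_lt 𝔊 1 0 m hd.ge Nat.zero_lt_one i

theorem ses1 (q : ℕ) (m : ℤ) : IsSES (inclN 𝔊 0 q (m - 𝔊.a 0)) (DN 𝔊 0 q (m - 𝔊.a 0) m (by ring)) :=
  isSES_N 𝔊 0 q (m - 𝔊.a 0) m (by ring) (by omega)

include hf in
theorem fin_N1 (q : ℕ) : ∀ m : ℤ, Fin' (N 𝔊 1 q m) := by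
  induction q with
  | zero => intro m i; have := N1_zero hd m i; infer_instance
  | succ q ih =>
    intro m
    have h0 : Fin' (N 𝔊 0 q (m - 𝔊.a 0)) := fun i => by
      obtain ⟨e1⟩ := nonempty_coord 𝔊 q (m - 𝔊.a 0) i
      obtain ⟨e2⟩ := nonempty_pi_congr (Fintype.equivFinOfCardEq (Fintype.card_finset_len (α := ι) q)) (O 𝔊 (m - 𝔊.a 0 - q)) i
      have h3 : Van 0 (pi fun _ : Fin 0 => O 𝔊 (m - 𝔊.a 0 - q)) := fun i _ => subsingleton_pi_zero _ i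
      have h4 : ∀ c : ℕ, Fin' (pi fun _ : Fin c => O 𝔊 (m - 𝔊.a 0 - q)) := by
        intro c
        induction c with
        | zero => intro i; have := subsingleton_pi_zero (O 𝔊 (m - 𝔊.a 0 - q)) i; infer_instance
        | succ c ihc => exact fin_middle (isSES_pi _ c) (hf _) ihc
      have := h4 ((Fintype.card ι).choose q) i
      exact Module.Finite.equiv (e1.trans e2).symm
    exact fin_right (ses1 hd q m) (ih _) h0

include hf hv in
theorem van_N1 (q : ℕ) : ∀ m : ℤ, Van B (N 𝔊 1 q m) := by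
  induction q with
  | zero => intro m i _; exact N1_zero hd m i
  | succ q ih =>
    intro m
    exact van_right (ses1 hd q m) (ih _) (N0_facts 𝔊 q _ (hf _) (hv _)).2.1

include hf hv in
theorem chi_N1 (q : ℕ) (m : ℤ) : chi B (N 𝔊 1 (q + 1) m) =
    (Fintype.card ι).choose q * chi B (O 𝔊 (m - 𝔊.a 0 - q)) - chi B (N 𝔊 1 q (m - 𝔊.a 0)) := by
  have h1 := chi_add (ses1 hd q m) B (fin_N1 hd hf q _) (N0_facts 𝔊 q _ (hf _) (hv _)).1 (fin_N1 hd hf (q + 1) m)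
    (van_N1 hd hf hv q _ _ (by omega))
  rw [(N0_facts 𝔊 q _ (hf _) (hv _)).2.2] at h1
  rw [h1]
  ring

theorem chi_N1_zero (m : ℤ) : chi B (N 𝔊 1 0 m) = 0 := chi_of_subsingleton B (N1_zero hd m)

omit hd in
theorem chi_N1_big (q : ℕ) (m : ℤ) (hq : Fintype.card ι < q) : chi B (N 𝔊 1 q m) = 0 :=
  chi_of_subsingleton B (subsingleton_N_of_card_lt 𝔊 1 q m hq)

end N1

end K568.Chi
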