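import Groth.Agent.LefPen.K568.GenSer

/-!
# The generating series computation for hypersurfaces, II
-/

set_option autoImplicit false
universe u

open Finset PowerSeries

namespace K568.GenSer

section Phi

variable {A : Type*} [CommRing A] (y : A)

/-- The `χ_y`-type sums for projective space. -/
noncomputable def Phi (N : ℕ) (t : ℤ) : A :=
  ∑ s ∈ range (N + 2), ((((N + 1).choose s : ℤ) * b N (t - s) : ℤ) : A) * y ^ s

theorem Phi_rec (N : ℕ) (t : ℤ) :
    Phi y (N + 1) (t + 1) - Phi y N (t + 1) = Phi y (N + 1) t + y * Phi y N t := by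
  have h1 : Phi y (N + 1) (t + 1) = Phi y (N + 1) t +
      ∑ s ∈ range (N + 3), ((((N + 2).choose s : ℤ) * b N (t + 1 - s) : ℤ) : A) * y ^ s := by
    unfold Phi
    rw [← sum_add_distrib]
    refine sum_congr rfl fun s _ => ?_
    have h2 := b_rec N (t + 1 - s)
    have h3 : t + 1 - (s : ℤ) - 1 = t - s := by ring
    rw [h3] at h2
    have h4 : b (N + 1) (t + 1 - s) = b (N + 1) (t - s) + b N (t + 1 - s) := by rw [h2]; ring
    rw [h4]
    push_cast
    ring
  have h5 : ∑ s ∈ range (N + 3), ((((N + 2).choose s : ℤ) * b N (t + 1 - s) : ℤ) : A) * y ^ s =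
      Phi y N (t + 1) + y * Phi y N t := by
    rw [sum_range_succ']
    have h6 : ∀ s : ℕ, ((((N + 2).choose (s + 1) : ℤ) * b N (t + 1 - ((s + 1 : ℕ) : ℤ)) : ℤ) : A) * y ^ (s + 1) =
        y * (((((N + 1).choose s : ℤ) * b N (t - s) : ℤ) : A) * y ^ s) +
          ((((N + 1).choose (s + 1) : ℤ) * b N (t + 1 - ((s + 1 : ℕ) : ℤ)) : ℤ) : A) * y ^ (s + 1) := by
      intro s
      have h7 : t + 1 - ((s + 1 : ℕ) : ℤ) = t - s := by push_cast; ring
      rw [h7, Nat.choose_succ_succ (N + 1) s]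
      push_cast
      ring
    rw [sum_congr rfl fun s _ => h6 s, sum_add_distrib, ← mul_sum, add_assoc]
    have h8 : ∑ s ∈ range (N + 2), ((((N + 1).choose (s + 1) : ℤ) * b N (t + 1 - ((s + 1 : ℕ) : ℤ)) : ℤ) : A) * y ^ (s + 1) +
        ((((N + 2).choose 0 : ℤ) * b N (t + 1 - ((0 : ℕ) : ℤ)) : ℤ) : A) * y ^ 0 = Phi y N (t + 1) := by
      unfold Phi
      have h9 := sum_range_succ' (fun s : ℕ => ((((N + 1).choose s : ℤ) * b N (t + 1 - (s : ℤ)) : ℤ) : A) * y ^ s) (N + 2)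
      rw [sum_range_succ, Nat.choose_succ_self, Nat.cast_zero, zero_mul, Int.cast_zero, zero_mul, add_zero] at h9
      rw [h9, Nat.choose_zero_right, Nat.choose_zero_right, Nat.cast_zero]
    rw [h8, add_comm]
    rfl
  rw [h1, h5]
  ring

theorem Phi_zero (N : ℕ) : Phi y N 0 = 1 + (-1) ^ N * y ^ (N + 1) := by
  unfold Phi
  rw [sum_range_succ, sum_range_succ', sum_eq_zero]
  · have h1 : (0 : ℤ) - ((N + 1 : ℕ) : ℤ) = -((N + 1 : ℕ) : ℤ) := by ring
    rw [h1, b_neg_top, Nat.choose_self, Nat.choose_zero_right, Nat.cast_zero, sub_zero, b_at_zero]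
    push_cast
    ring
  · intro s hs
    have hs' := mem_range.1 hs
    have h1 : (0 : ℤ) - ((s + 1 : ℕ) : ℤ) = -((s + 1 : ℕ) : ℤ) := by ring
    rw [h1, b_neg s N (by omega), mul_zero, Int.cast_zero, zero_mul]

theorem Phi_N0 (t : ℤ) : Phi y 0 t = 1 + y := by
  unfold Phi
  rw [sum_range_succ, sum_range_one, b_zero, b_zero]
  simp

/-- The generating series. -/
noncomputable def Q (t : ℤ) : A⟦X⟧ := PowerSeries.mk fun N => Phi y N t

theorem Q_succ (t : ℤ) : (1 - X) * Q y (t + 1) = (1 + C y * X) * Q y t := by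
  ext N
  cases N with
  | zero =>
    have h1 := Phi_N0 y (t + 1)
    have h2 := Phi_N0 y t
    simp [Q, h1, h2]
  | succ N =>
    rw [coeff_succ_P1_mul, coeff_succ_P2_mul]
    unfold Q
    rw [coeff_mk, coeff_mk, coeff_mk, coeff_mk]
    exact Phi_rec y N t

theorem Q_zero : (1 - X) * ((1 + C y * X) * Q y 0) = C (1 + y) := by
  have e1 : (1 - X) * (PowerSeries.mk fun _ => (1 : A)) = 1 := by
    ext N
    cases N with
    | zero => simp
    | succ N =>
      rw [coeff_succ_P1_mul, coeff_mk, coeff_mk, sub_self, coeff_one, if_neg (Nat.succ_ne_zero N)]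
  have e2 : (1 + C y * X) * (PowerSeries.mk fun N => (-1) ^ N * y ^ (N + 1)) = C y := by
    ext N
    cases N with
    | zero => simp
    | succ N =>
      rw [coeff_succ_P2_mul, coeff_mk, coeff_mk, coeff_C, if_neg (Nat.succ_ne_zero N)]
      ring
  have e3 : Q y 0 = (PowerSeries.mk fun _ => (1 : A)) + (PowerSeries.mk fun N => (-1) ^ N * y ^ (N + 1)) := by
    ext N
    rw [map_add, coeff_mk, coeff_mk, Q, coeff_mk, Phi_zero]
  rw [e3, mul_add, e2, mul_add]
  have e4 : (1 - X) * ((1 + C y * X) * (PowerSeries.mk fun _ => (1 : A))) = 1 + C y * X := by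
    rw [mul_left_comm, e1, mul_one]
  rw [e4, map_add, map_one]
  ring

/-- `(1 + y z) / (1 - z)`. -/
noncomputable def R : (A⟦X⟧)ˣ := P2 y * (P1 A)⁻¹

theorem Q_succ' (t : ℤ) : Q y (t + 1) = (R y : A⟦X⟧) * Q y t := by
  have h1 := Q_succ y t
  rw [← P1_val, ← P2_val] at h1
  have h2 := congrArg (fun z => (((P1 A)⁻¹ : (A⟦X⟧)ˣ) : A⟦X⟧) * z) h1
  simp only [Units.inv_mul_cancel_left] at h2
  rw [h2, R, Units.val_mul]
  ring

theorem Q_eq (t : ℤ) : Q y t = (((R y) ^ t : (A⟦X⟧)ˣ) : A⟦X⟧) * Q y 0 := by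
  induction t with
  | zero => rw [zpow_zero, Units.val_one, one_mul]
  | succ t ih => rw [Q_succ', ih, ← mul_assoc, ← Units.val_mul, ← zpow_one_add, add_comm]
  | pred t ih =>
    have h1 := Q_succ' y (-(t : ℤ) - 1)
    rw [sub_add_cancel, ih] at h1
    have h2 := congrArg (fun z => (((R y)⁻¹ : (A⟦X⟧)ˣ) : A⟦X⟧) * z) h1
    simp only [Units.inv_mul_cancel_left] at h2
    rw [← h2, ← mul_assoc, ← Units.val_mul]
    congr 2
    rw [← zpow_neg_one, ← zpow_add]
    congr 1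
    ring

/-- The solution of the recursion in the twist. -/
theorem rec_solution (a : ℕ) (G : ℤ → A⟦X⟧)
    (hdiv : ∀ p : A, (∀ j : ℕ, y ^ j ∣ p) → p = 0)
    (hG : ∀ t, G t + C y * G (t - a) = Q y (t - a) - Q y (t - 2 * a)) (t : ℤ) :
    (1 + C y * (((R y) ^ (-(a : ℤ)) : (A⟦X⟧)ˣ) : A⟦X⟧)) * G t = Q y (t - a) - Q y (t - 2 * a) := by
  let E : ℤ → A⟦X⟧ := fun t => (1 + C y * (((R y) ^ (-(a : ℤ)) : (A⟦X⟧)ˣ) : A⟦X⟧)) * G t - (Q y (t - a) - Q y (t - 2 * a))
  have hQ : ∀ t : ℤ, (((R y) ^ (-(a : ℤ)) : (A⟦X⟧)ˣ) : A⟦X⟧) * Q y t = Q y (t - a) := by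
    intro t
    rw [Q_eq y t, Q_eq y (t - a), ← mul_assoc, ← Units.val_mul, ← zpow_add]
    congr 3
    ring
  have hE : ∀ t, E t = -C y * E (t - a) := by
    intro t
    have h1 := hQ (t - a)
    have h2 := hQ (t - 2 * a)
    have e1 : t - (a : ℤ) - a = t - 2 * a := by ring
    have e2 : t - 2 * (a : ℤ) - a = t - 3 * a := by ring
    have e3 : t - (a : ℤ) - 2 * a = t - 3 * a := by ring
    rw [e1] at h1
    rw [e2] at h2
    have h3 := hG t
    change (1 + C y * (((R y) ^ (-(a : ℤ)) : (A⟦X⟧)ˣ) : A⟦X⟧)) * G t - (Q y (t - a) - Q y (t - 2 * a)) =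
      -C y * ((1 + C y * (((R y) ^ (-(a : ℤ)) : (A⟦X⟧)ˣ) : A⟦X⟧)) * G (t - a) - (Q y (t - a - a) - Q y (t - a - 2 * a)))
    rw [e1, e3]
    linear_combination (1 + C y * (((R y) ^ (-(a : ℤ)) : (A⟦X⟧)ˣ) : A⟦X⟧)) * h3 + C y * h1 - C y * h2
  have hE2 : ∀ (j : ℕ) (t : ℤ), E t = C ((-y) ^ j) * E (t - j * a) := by
    intro j
    induction j with
    | zero => intro t; simp
    | succ j ih =>
      intro t
      rw [ih t, hE (t - j * a), pow_succ, map_mul, map_neg]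
      have : t - (j : ℤ) * a - a = t - ((j + 1 : ℕ) : ℤ) * a := by push_cast; ring
      rw [this]
      ring
  have hE0 : E t = 0 := by
    ext n
    rw [map_zero]
    apply hdiv
    intro j
    rw [hE2 j t, coeff_C_mul, neg_pow]
    exact Dvd.dvd.mul_right (Dvd.intro_left _ rfl) _
  exact sub_eq_zero.1 hE0

/-- **The final formula.** -/
theorem final (a : ℕ) (hdiv : ∀ p : A, (∀ j : ℕ, y ^ j ∣ p) → p = 0)
    (hreg : ∀ p : A⟦X⟧, C (1 + y) * p = 0 → p = 0)
    (γ : ℕ → ℤ → A) (χ : ℕ → A)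
    (hγ : ∀ n t, γ n t + y * γ n (t - a) = Phi y (n + 1) (t - a) - Phi y (n + 1) (t - 2 * a))
    (hχ : ∀ n, γ n a = (1 + y) * χ n) :
    (1 - X) * (1 + C y * X) * ((1 + C y * X) ^ a + C y * (1 - X) ^ a) * (X * PowerSeries.mk χ) =
      (1 + C y * X) ^ a - (1 - X) ^ a := by
  let G : ℤ → A⟦X⟧ := fun t => X * PowerSeries.mk (fun n => γ n t)
  have hG : ∀ t, G t + C y * G (t - a) = Q y (t - a) - Q y (t - 2 * a) := by
    intro t
    ext N
    cases N with
    | zero =>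
      have h1 := Phi_N0 y (t - a)
      have h2 := Phi_N0 y (t - 2 * a)
      simp [G, Q, h1, h2]
    | succ n =>
      rw [map_add, map_sub, coeff_C_mul, coeff_succ_X_mul, coeff_succ_X_mul, coeff_mk, coeff_mk, Q, coeff_mk, Q,
        coeff_mk]
      exact hγ n t
  have key := rec_solution y a G hdiv hG a
  have hGa : G a = C (1 + y) * (X * PowerSeries.mk χ) := by
    ext N
    cases N with
    | zero => simp [G]
    | succ n => rw [coeff_succ_X_mul, coeff_C_mul, coeff_succ_X_mul, coeff_mk, coeff_mk, hχ]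
  rw [hGa, sub_self] at key
  have hQa : Q y ((a : ℤ) - 2 * a) = (((R y) ^ (-(a : ℤ)) : (A⟦X⟧)ˣ) : A⟦X⟧) * Q y 0 := by
    rw [Q_eq y ((a : ℤ) - 2 * a)]
    congr 3
    ring
  rw [hQa] at key
  have hQ0 := Q_zero y
  set Ra := (((R y) ^ (-(a : ℤ)) : (A⟦X⟧)ˣ) : A⟦X⟧) with hRa
  have hRa2 : (1 + C y * X) ^ a * Ra = (1 - X) ^ a := by
    rw [hRa, ← P1_val, ← P2_val, ← Units.val_pow_eq_pow_val, ← Units.val_pow_eq_pow_val, ← Units.val_mul]
    congr 1
    rw [R, mul_zpow, zpow_neg, zpow_neg, zpow_natCast, zpow_natCast, inv_pow, inv_inv, mul_inv_cancel_left]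
  have h1 : C (1 + y) * ((1 - X) * (1 + C y * X) * (1 + C y * Ra) * (X * PowerSeries.mk χ) - (1 - Ra)) = 0 := by
    linear_combination ((1 - X) * (1 + C y * X)) * key + (1 - Ra) * hQ0
  have h2 := sub_eq_zero.1 (hreg _ h1)
  rw [← hRa2]
  linear_combination ((1 + C y * X) ^ a) * h2

end Phi

end K568.GenSer
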