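import Groth.Agent.LefPen.K568.GenSer2
import Mathlib.Algebra.Polynomial.Div
import Mathlib.Algebra.Polynomial.RingDivision

/-!
# The generating series computation for hypersurfaces, III
-/

set_option autoImplicit false
universe u

open Finset

namespace K568.GenSer

theorem poly_div (p : Polynomial ℤ) (h : ∀ j : ℕ, (Polynomial.X : Polynomial ℤ) ^ j ∣ p) : p = 0 := by
  ext n
  rw [Polynomial.coeff_zero]
  exact (Polynomial.X_pow_dvd_iff.1 (h (n + 1))) n (Nat.lt_succ_self n)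

theorem one_add_X_ne : (1 + Polynomial.X : Polynomial ℤ) ≠ 0 := by
  intro h
  have h1 := congrArg (fun p => Polynomial.coeff p 0) h
  simp at h1

theorem reg (p : PowerSeries (Polynomial ℤ)) (h : PowerSeries.C (1 + Polynomial.X : Polynomial ℤ) * p = 0) : p = 0 := by
  ext1 n
  have h1 := congrArg (PowerSeries.coeff n) h
  rw [PowerSeries.coeff_C_mul, map_zero] at h1
  rw [map_zero]
  exact (mul_eq_zero.1 h1).resolve_left one_add_X_ne

theorem gamma_rec (n a : ℕ) (h : ℕ → ℤ → ℤ) (h0 : ∀ t, h 0 t = 0)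
    (hr : ∀ q t, h (q + 1) t = (n + 2).choose q * (b (n + 1) (t - a - q) - b (n + 1) (t - a - q - a)) - h q (t - a))
    (hb : ∀ t, h (n + 3) t = 0) (t : ℤ) :
    (∑ q ∈ range (n + 2), Polynomial.C (h (q + 1) t) * Polynomial.X ^ q) +
      Polynomial.X * (∑ q ∈ range (n + 2), Polynomial.C (h (q + 1) (t - a)) * Polynomial.X ^ q) =
      Phi (Polynomial.X : Polynomial ℤ) (n + 1) (t - a) - Phi (Polynomial.X : Polynomial ℤ) (n + 1) (t - 2 * a) := by
  have e1 : ∑ q ∈ range (n + 2), Polynomial.C (h (q + 1) t) * Polynomial.X ^ q =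
      ∑ q ∈ range (n + 3), Polynomial.C (h (q + 1) t) * Polynomial.X ^ q := by
    rw [sum_range_succ _ (n + 2), hb, map_zero, zero_mul, add_zero]
  have e2 : Polynomial.X * (∑ q ∈ range (n + 2), Polynomial.C (h (q + 1) (t - a)) * Polynomial.X ^ q) =
      ∑ q ∈ range (n + 3), Polynomial.C (h q (t - a)) * Polynomial.X ^ q := by
    rw [sum_range_succ' _ (n + 2), h0, map_zero, zero_mul, add_zero, mul_sum]
    refine sum_congr rfl fun q _ => ?_
    ring
  rw [e1, e2, ← sum_add_distrib]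
  unfold Phi
  rw [← sum_sub_distrib]
  refine sum_congr rfl fun q _ => ?_
  rw [hr]
  have e3 : t - 2 * (a : ℤ) - q = t - a - q - a := by ring
  rw [e3]
  have e4 : ∀ z : ℤ, ((z : ℤ) : Polynomial ℤ) = Polynomial.C z := fun z => rfl
  rw [e4, e4, ← add_mul, ← map_add, ← sub_mul, ← map_sub]
  congr 2
  ring

theorem gamma_chi (n : ℕ) (a : ℤ) (f : ℕ → ℤ) (h : ℕ → ℤ → ℤ) (f0 : f 0 = 0) (hf : ∀ q, f (q + 1) + f q = h (q + 1) a)
    (fb : ∀ q, n + 2 ≤ q → f q = 0) :
    (∑ q ∈ range (n + 2), Polynomial.C (h (q + 1) a) * Polynomial.X ^ q) =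
      (1 + Polynomial.X) * ∑ p ∈ range (n + 1), Polynomial.C (f (p + 1)) * (Polynomial.X : Polynomial ℤ) ^ p := by
  have e1 : ∑ q ∈ range (n + 2), Polynomial.C (h (q + 1) a) * (Polynomial.X : Polynomial ℤ) ^ q =
      ∑ q ∈ range (n + 2), Polynomial.C (f (q + 1)) * Polynomial.X ^ q +
        ∑ q ∈ range (n + 2), Polynomial.C (f q) * Polynomial.X ^ q := by
    rw [← sum_add_distrib]
    refine sum_congr rfl fun q _ => ?_
    rw [← hf, map_add, add_mul]
  rw [e1, sum_range_succ _ (n + 1), fb (n + 1 + 1) le_rfl, map_zero, zero_mul, add_zero, sum_range_succ' _ (n + 1), f0,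
    map_zero, zero_mul, add_zero, add_mul, one_mul, mul_sum]
  congr 1
  refine sum_congr rfl fun q _ => ?_
  ring

end K568.GenSer
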