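import Groth.Agent.LefPen.K568.HirzHyp

/-!
# The Hirzebruch genus of smooth hypersurfaces: the generating series

This is S19490 with `y` the constant power series `C X ∈ ℤ[X]⟦z⟧`.  (In the frozen statement the elaborated
`algebraMap (Polynomial ℤ) (PowerSeries (Polynomial ℤ))` is that of `PowerSeries.algebraPolynomial`, which sends
`Polynomial.X` to the power series variable.)
-/

set_option autoImplicit false
universe u
open CategoryTheory CategoryTheory.Limits AlgebraicGeometry Opposite TopologicalSpace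

namespace K568.HirzFinal

open LefPen

theorem main (k : Type u) [Field k]
    (a : ℕ) (ha : 1 ≤ a) (G : ∀ n : ℕ, LefPen.Form (n + 1) k a)
    [∀ n : ℕ, SmoothOfRelativeDimension n ((LefPen.hypIdeal (G n)).subschemeι ≫ CohB1.ProjSpace.toSpec (n + 1) k)]
    [hO : ∀ n : ℕ, (LefPen.hypIdeal (G n)).subscheme.Over (Spec (CommRingCat.of k))]
    (hover : ∀ n : ℕ, (LefPen.hypIdeal (G n)).subscheme ↘ Spec (CommRingCat.of k) = ((LefPen.hypIdeal (G n)).subschemeι ≫ CohB1.ProjSpace.toSpec (n + 1) k))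
    (L : ∀ n : ℕ, ℕ → (LefPen.hypIdeal (G n)).subscheme.Modules)
    (hL : ∀ n p : ℕ, ExtPow.IsExtPow p (Omega.sheaf ((LefPen.hypIdeal (G n)).subschemeι ≫ CohB1.ProjSpace.toSpec (n + 1) k)) (L n p))
    (χ : ℕ → Polynomial ℤ)
    (hχ : ∀ n : ℕ, χ n = ∑ p ∈ Finset.range (n + 1),
      Polynomial.C (∑ q ∈ Finset.range (n + 1), (-1 : ℤ) ^ q * (Module.finrank k (Coh.HH (LefPen.hypIdeal (G n)).subscheme (L n p) q) : ℤ)) *
        Polynomial.X ^ p)
    (y : PowerSeries (Polynomial ℤ)) (hy : y = PowerSeries.C (Polynomial.X : Polynomial ℤ)) :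
    (1 - PowerSeries.X) * (1 + y * PowerSeries.X) *
        ((1 + y * PowerSeries.X) ^ a + y * (1 - PowerSeries.X) ^ a) *
        (PowerSeries.X * PowerSeries.mk χ) =
      (1 + y * PowerSeries.X) ^ a - (1 - PowerSeries.X) ^ a := by
  choose f h f0 hf fb h0 hr hb key using fun n => K568.HirzHyp.exists_numbers' ha (G n) inferInstance
  rw [hy]
  refine K568.GenSer.final (Polynomial.X : Polynomial ℤ) a K568.GenSer.poly_div K568.GenSer.reg
    (fun n t => ∑ q ∈ Finset.range (n + 2), Polynomial.C (h n (q + 1) t) * Polynomial.X ^ q) χ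
    (fun n t => K568.GenSer.gamma_rec n a (h n) (h0 n) (hr n) (hb n) t) (fun n => ?_)
  rw [K568.GenSer.gamma_chi n a (f n) (h n) (f0 n) (hf n) (fb n), hχ n]
  congr 1
  refine Finset.sum_congr rfl fun p _ => ?_
  rw [← key n (hO n) (hover n) p (L n p) (hL n p)]

end K568.HirzFinal
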