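import Groth.Agent.LefPen.K568.ChiHyp
import Groth.Agent.LefPen.K568.GenSer3

/-!
# The Hirzebruch genus of smooth hypersurfaces
-/

set_option autoImplicit false
universe u
open CategoryTheory CategoryTheory.Limits AlgebraicGeometry Opposite TopologicalSpace

namespace K568.HirzHyp

open LefPen K568.GenSer K568.ChiHyp K568.HypCI Groth.Agent.Lefpen.H718.Chart

/-- The numbers of one hypersurface. -/
theorem exists_numbers' {k : Type u} [Field k] {n a : ℕ} (ha : 1 ≤ a) (G : Form (n + 1) k a)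
    (hs : SmoothOfRelativeDimension n ((hypIdeal G).subschemeι ≫ CohB1.ProjSpace.toSpec (n + 1) k)) :
    ∃ (f : ℕ → ℤ) (h : ℕ → ℤ → ℤ), f 0 = 0 ∧ (∀ q, f (q + 1) + f q = h (q + 1) a) ∧
    (∀ q, n + 2 ≤ q → f q = 0) ∧ (∀ t, h 0 t = 0) ∧
    (∀ q t, h (q + 1) t = (n + 2).choose q * (b (n + 1) (t - a - q) - b (n + 1) (t - a - q - a)) - h q (t - a)) ∧
    (∀ t, h (n + 3) t = 0) ∧
    ∀ (_ : (hypIdeal G).subscheme.Over (Spec (CommRingCat.of k)))
      (_ : (hypIdeal G).subscheme ↘ Spec (CommRingCat.of k) =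
        (hypIdeal G).subschemeι ≫ CohB1.ProjSpace.toSpec (n + 1) k) (p : ℕ) (L : (hypIdeal G).subscheme.Modules)
      (_ : ExtPow.IsExtPow p (Omega.sheaf ((hypIdeal G).subschemeι ≫ CohB1.ProjSpace.toSpec (n + 1) k)) L),
      ∑ q ∈ Finset.range (n + 1), (-1 : ℤ) ^ q * (Module.finrank k (Coh.HH (hypIdeal G).subscheme L q) : ℤ) = f (p + 1) := by
  have hsm : SmoothOfRelativeDimension n (yStr (a := dg a) (one G)) := by
    change SmoothOfRelativeDimension n ((ciIdeal (a := fun _ : Fin 1 => a) (one G)).subschemeι ≫ _)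
    rw [ciIdeal_one]
    exact hs
  have key := exists_numbers ha (one G)
  exact Eq.rec (motive := fun (I : (CohB1.ProjSpace (n + 1) k).IdealSheafData) _ =>
    ∃ (f : ℕ → ℤ) (h : ℕ → ℤ → ℤ), f 0 = 0 ∧ (∀ q, f (q + 1) + f q = h (q + 1) a) ∧
    (∀ q, n + 2 ≤ q → f q = 0) ∧ (∀ t, h 0 t = 0) ∧
    (∀ q t, h (q + 1) t = (n + 2).choose q * (b (n + 1) (t - a - q) - b (n + 1) (t - a - q - a)) - h q (t - a)) ∧
    (∀ t, h (n + 3) t = 0) ∧
    ∀ (_ : I.subscheme.Over (Spec (CommRingCat.of k)))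
      (_ : I.subscheme ↘ Spec (CommRingCat.of k) = I.subschemeι ≫ CohB1.ProjSpace.toSpec (n + 1) k) (p : ℕ)
      (L : I.subscheme.Modules)
      (_ : ExtPow.IsExtPow p (Omega.sheaf (I.subschemeι ≫ CohB1.ProjSpace.toSpec (n + 1) k)) L),
      ∑ q ∈ Finset.range (n + 1), (-1 : ℤ) ^ q * (Module.finrank k (Coh.HH I.subscheme L q) : ℤ) = f (p + 1)) key
    (ciIdeal_one G)

end K568.HirzHyp
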