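import Mathlib.Algebra.MvPolynomial.Basic
import Mathlib.Data.Nat.Choose.Basic
import Mathlib.Data.Nat.Choose.Sum
import Mathlib.Algebra.BigOperators.Group.Finset.Basic
import Mathlib.Algebra.Ring.GeomSum
import Mathlib.Tactic

/-! # The Hodge generating function identities -/

set_option autoImplicit false

open Finset

namespace K568.HodgeGen

variable {R : Type*} [CommRing R]

/-- The telescoping double sum. -/
theorem sum_mul_sub (f : ℕ → R) (y z : R) (n N : ℕ) (hn : n ≤ N) :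
    (y - z) * ∑ i ∈ range N, ∑ j ∈ range N, (if i + j + 1 ≤ n then f (i + j + 1) * y ^ i * z ^ j else 0) =
      ∑ k ∈ range n, f (k + 1) * (y ^ (k + 1) - z ^ (k + 1)) := by
  have h1 : ∑ i ∈ range N, ∑ j ∈ range N, (if i + j + 1 ≤ n then f (i + j + 1) * y ^ i * z ^ j else 0) =
      ∑ k ∈ range n, ∑ i ∈ range (k + 1), f (k + 1) * y ^ i * z ^ (k - i) := by
    rw [← Finset.sum_product', ← Finset.sum_filter, Finset.sum_sigma']
    refine Finset.sum_nbij' (fun p => ⟨p.1 + p.2, p.1⟩) (fun q => (q.2, q.1 - q.2)) ?_ ?_ ?_ ?_ ?_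
    · rintro ⟨i, j⟩ h
      simp only [mem_filter, mem_product, mem_range, mem_sigma] at h ⊢
      omega
    · rintro ⟨k, i⟩ h
      simp only [mem_filter, mem_product, mem_range, mem_sigma] at h ⊢
      omega
    · rintro ⟨i, j⟩ h
      simp
    · rintro ⟨k, i⟩ h
      simp only [mem_sigma, mem_range] at h
      simp only [Sigma.mk.injEq, heq_eq_eq, and_true]
      omega
    · rintro ⟨i, j⟩ h
      simp
  rw [h1, Finset.mul_sum]
  refine Finset.sum_congr rfl fun k _ => ?_
  rw [← geom_sum₂_mul y z (k + 1), Finset.mul_sum, Finset.sum_mul, Finset.mul_sum]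
  refine Finset.sum_congr rfl fun i _ => ?_
  rw [Nat.add_sub_cancel]
  ring

theorem first (y z : R) (n : ℕ) (N : ℕ) (hN : n ≤ N) :
    (1 + y) ^ n - (1 + z) ^ n =
      (y - z) * ∑ i ∈ range N, ∑ j ∈ range N,
        if i + j + 1 ≤ n then ((n).choose (i + j + 1) : R) * y ^ i * z ^ j else 0 := by
  rw [sum_mul_sub (fun k => ((n.choose k : ℕ) : R)) y z n N hN]
  have hb : ∀ t : R, (1 + t) ^ n = ∑ k ∈ range (n + 1), (n.choose k : R) * t ^ k := fun t => by
    rw [add_comm, add_pow]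
    refine Finset.sum_congr rfl fun k _ => ?_
    rw [one_pow, mul_one, mul_comm]
  rw [hb y, hb z, ← Finset.sum_sub_distrib, Finset.sum_range_succ']
  simp only [pow_zero, sub_self, add_zero]
  exact Finset.sum_congr rfl fun k _ => by ring

theorem second (y z : R) (a : ℕ) (ha : 1 ≤ a) :
    (1 + y) ^ a * z - (1 + z) ^ a * y =
      (y - z) * (-1 + ∑ i ∈ range (a + 1), ∑ j ∈ range (a + 1),
        if 1 ≤ i ∧ 1 ≤ j ∧ i + j ≤ a then (a.choose (i + j) : R) * y ^ i * z ^ j else 0) := by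
  obtain ⟨b, rfl⟩ : ∃ b, a = b + 1 := ⟨a - 1, by omega⟩
  have h1 : ∑ i ∈ range (b + 1 + 1), ∑ j ∈ range (b + 1 + 1),
        (if 1 ≤ i ∧ 1 ≤ j ∧ i + j ≤ b + 1 then ((b + 1).choose (i + j) : R) * y ^ i * z ^ j else 0) =
      y * z * ∑ i ∈ range (b + 1), ∑ j ∈ range (b + 1),
        (if i + j + 1 ≤ b then ((b + 1).choose (i + j + 1 + 1) : R) * y ^ i * z ^ j else 0) := by
    rw [Finset.sum_range_succ' _ (b + 1)]
    have h0 : ∑ j ∈ range (b + 1 + 1), (if 1 ≤ 0 ∧ 1 ≤ j ∧ 0 + j ≤ b + 1 then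
        ((b + 1).choose (0 + j) : R) * y ^ 0 * z ^ j else 0) = 0 :=
      Finset.sum_eq_zero fun j _ => if_neg fun h => absurd h.1 (by norm_num)
    rw [h0, add_zero, Finset.mul_sum]
    refine Finset.sum_congr rfl fun i _ => ?_
    rw [Finset.sum_range_succ' _ (b + 1)]
    rw [if_neg (show ¬ (1 ≤ i + 1 ∧ 1 ≤ 0 ∧ i + 1 + 0 ≤ b + 1) from fun h => absurd h.2.1 (by norm_num)),
      add_zero, Finset.mul_sum]
    refine Finset.sum_congr rfl fun j _ => ?_
    by_cases h : i + j + 1 ≤ b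
    · rw [if_pos (by omega), if_pos h, show i + 1 + (j + 1) = i + j + 1 + 1 by ring]
      ring
    · rw [if_neg (by omega), if_neg h, mul_zero]
  have h2 := sum_mul_sub (fun k => (((b + 1).choose (k + 1) : ℕ) : R)) y z b (b + 1) (by omega)
  rw [h1, mul_add, mul_left_comm (y - z) (y * z), h2]
  have hb : ∀ t : R, (1 + t) ^ (b + 1) = ∑ k ∈ range (b + 1 + 1), ((b + 1).choose k : R) * t ^ k := fun t => by
    rw [add_comm, add_pow]
    refine Finset.sum_congr rfl fun k _ => ?_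
    rw [one_pow, mul_one, mul_comm]
  rw [hb y, hb z]
  rw [Finset.sum_range_succ', Finset.sum_range_succ', Finset.sum_range_succ', Finset.sum_range_succ']
  rw [Finset.mul_sum]
  simp only [add_mul, Finset.sum_mul]
  have h3 : ∀ k ∈ range b, y * z * (((b + 1).choose (k + 1 + 1) : R) * (y ^ (k + 1) - z ^ (k + 1))) =
      ((b + 1).choose (k + 1 + 1) : R) * y ^ (k + 1 + 1) * z -
        ((b + 1).choose (k + 1 + 1) : R) * z ^ (k + 1 + 1) * y := fun k _ => by ring
  rw [Finset.sum_congr rfl h3, Finset.sum_sub_distrib]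
  simp only [Nat.choose_zero_right, pow_zero, zero_add]
  push_cast
  ring

end K568.HodgeGen
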