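import Groth.Agent.LefPen.K568.HodgeSupp

/-! # Nonvanishing of the coefficients of the Hodge generating series -/

set_option autoImplicit false

open Finset MvPowerSeries

namespace K568.HodgeSupp

/-! ### The factor `(1+y)(1+z)` -/

theorem NN_one_add_X (i : Fin 2) : NN (1 + X i : W) := NN.one.add (NN.X i)

theorem NN_E (n : ℕ) : NN (((1 + X 0) * (1 + X 1) : W) ^ n) :=
  ((NN_one_add_X 0).mul (NN_one_add_X 1)).pow n

theorem le_of_coeff_one_add_X {i j : Fin 2} {m : Fin 2 →₀ ℕ} (h : coeff m (1 + X i : W) ≠ 0) : m j ≤ 1 := by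
  classical
  rw [map_add, coeff_one, coeff_X] at h
  by_cases h0 : m = 0
  · rw [h0]; simp
  · rw [if_neg h0, zero_add] at h
    have h1 : m = Finsupp.single i 1 := by
      by_contra h'
      exact h (if_neg h')
    rw [h1, Finsupp.single_apply]
    split_ifs <;> omega

theorem coeff_one_add_X_ne {i j : Fin 2} (hij : i ≠ j) {m : Fin 2 →₀ ℕ} (h : coeff m (1 + X i : W) ≠ 0) :
    m j = 0 := by
  classical
  rw [map_add, coeff_one, coeff_X] at h
  by_cases h0 : m = 0
  · rw [h0]; simp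
  · rw [if_neg h0, zero_add] at h
    have h1 : m = Finsupp.single i 1 := by
      by_contra h'
      exact h (if_neg h')
    rw [h1, Finsupp.single_apply, if_neg hij]

theorem le_of_coeff_E {n : ℕ} : ∀ {m : Fin 2 →₀ ℕ}, coeff m (((1 + X 0) * (1 + X 1) : W) ^ n) ≠ 0 →
    ∀ j, m j ≤ n := by
  classical
  induction n with
  | zero =>
    intro m h j
    rw [pow_zero, coeff_one] at h
    have : m = 0 := by
      by_contra h'
      exact h (if_neg h')
    rw [this]; simp
  | succ n ih =>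
    intro m h j
    rw [pow_succ] at h
    obtain ⟨m₁, m₂, rfl, h₁, h₂⟩ := exists_of_coeff_mul_ne_zero h
    obtain ⟨m₃, m₄, rfl, h₃, h₄⟩ := exists_of_coeff_mul_ne_zero h₂
    have e1 := ih h₁ j
    have e2 : (m₃ + m₄) j ≤ 1 := by
      rw [Finsupp.add_apply]
      fin_cases j
      · have := coeff_one_add_X_ne (i := 1) (j := 0) (by decide) h₄
        have := le_of_coeff_one_add_X (j := 0) h₃
        simp only [Fin.zero_eta]
        omega
      · have := coeff_one_add_X_ne (i := 0) (j := 1) (by decide) h₃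
        have := le_of_coeff_one_add_X (j := 1) h₄
        simp only [Fin.mk_one]
        omega
    rw [Finsupp.add_apply]
    omega

theorem ee_zero_zero : ee 0 0 = 0 := by simp [ee]

theorem coeff_E_pos (n : ℕ) : ∀ w ≤ n, 0 < coeff (ee 0 w) (((1 + X 0) * (1 + X 1) : W) ^ n) := by
  classical
  have h00 : 0 < coeff (ee 0 0) ((1 + X 0) * (1 + X 1) : W) := by
    have h := coeff_mul_pos (NN_one_add_X 0) (NN_one_add_X 1) (m₁ := ee 0 0) (m₂ := ee 0 0)
      (by rw [ee_zero_zero]; simp) (by rw [ee_zero_zero]; simp)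
    rwa [ee_add] at h
  have h01 : 0 < coeff (ee 0 1) ((1 + X 0) * (1 + X 1) : W) := by
    have h := coeff_mul_pos (NN_one_add_X 0) (NN_one_add_X 1) (m₁ := ee 0 0) (m₂ := ee 0 1)
      (by rw [ee_zero_zero]; simp) (by
        rw [map_add, coeff_one, coeff_X]
        have h1 : ee 0 1 = Finsupp.single 1 1 := by simp [ee]
        have h2 : ee 0 1 ≠ 0 := by rw [h1]; simp
        rw [if_neg h2, if_pos h1]; norm_num)
    rwa [ee_add] at h
  induction n with
  | zero =>
    intro w hw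
    obtain rfl : w = 0 := by omega
    rw [pow_zero, ee_zero_zero]; simp
  | succ n ih =>
    intro w hw
    rw [pow_succ]
    rcases Nat.eq_zero_or_pos w with rfl | hw0
    · have h := coeff_mul_pos (NN_E n) ((NN_one_add_X 0).mul (NN_one_add_X 1)) (ih 0 (by omega)) h00
      rwa [ee_add] at h
    · have h := coeff_mul_pos (NN_E n) ((NN_one_add_X 0).mul (NN_one_add_X 1)) (ih (w - 1) (by omega)) h01
      rwa [ee_add, Nat.sub_add_cancel hw0] at h

/-! ### Products -/

variable {κ : Type*} {a : κ → ℕ} {Hs : κ → W}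

/-- Upper bound for products. -/
theorem bound_prod [DecidableEq κ] (A : ℕ) (P : Finset κ) (hA : ∀ i ∈ P, a i ≤ A)
    (hH : ∀ i ∈ P, (1 - Pser (a i)) * Hs i = Nser (a i)) :
    ∀ m : Fin 2 →₀ ℕ, coeff m (∏ i ∈ P, Hs i) ≠ 0 → m 0 + m 1 + 2 * P.card ≤ m 0 * A + ∑ i ∈ P, a i := by
  classical
  induction P using Finset.induction_on with
  | empty =>
    intro m h
    rw [prod_empty, coeff_one] at h
    have : m = 0 := by
      by_contra h'
      exact h (if_neg h')
    rw [this]; simp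
  | insert i s hi ih =>
    intro m h
    rw [prod_insert hi] at h
    obtain ⟨m₁, m₂, rfl, h₁, h₂⟩ := exists_of_coeff_mul_ne_zero h
    have e1 := le_of_coeff_H_ne (hH i (mem_insert_self _ _)) h₁
    have e2 := ih (fun j hj => hA j (mem_insert_of_mem hj)) (fun j hj => hH j (mem_insert_of_mem hj)) m₂ h₂
    rw [card_insert_of_notMem hi, sum_insert hi, Finsupp.add_apply, Finsupp.add_apply]
    have e3 : m₁ 0 * a i ≤ m₁ 0 * A := Nat.mul_le_mul_left _ (hA i (mem_insert_self _ _))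
    have e4 : (m₁ 0 + m₂ 0) * A = m₁ 0 * A + m₂ 0 * A := by ring
    omega

/-- Positivity of products in `y`-degree zero. -/
theorem prod_pos [DecidableEq κ] (P : Finset κ) (h2 : ∀ i ∈ P, 2 ≤ a i)
    (hH : ∀ i ∈ P, (1 - Pser (a i)) * Hs i = Nser (a i)) :
    ∀ V : ℕ, V + 2 * P.card ≤ ∑ i ∈ P, a i → 0 < coeff (ee 0 V) (∏ i ∈ P, Hs i) := by
  classical
  induction P using Finset.induction_on with
  | empty =>
    intro V hV
    obtain rfl : V = 0 := by simpa using hV
    rw [prod_empty, ee_zero_zero]; simp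
  | insert i s hi ih =>
    intro V hV
    rw [card_insert_of_notMem hi, sum_insert hi] at hV
    rw [prod_insert hi]
    have hai := h2 i (mem_insert_self _ _)
    have hs : 2 * s.card ≤ ∑ j ∈ s, a j := by
      rw [mul_comm, ← smul_eq_mul]
      exact Finset.card_nsmul_le_sum s a 2 fun j hj => h2 j (mem_insert_of_mem hj)
    obtain ⟨v, hv, hvV, hrest⟩ : ∃ v, v + 2 ≤ a i ∧ v ≤ V ∧ V - v + 2 * s.card ≤ ∑ j ∈ s, a j := by
      refine ⟨min V (a i - 2), ?_, min_le_left _ _, ?_⟩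
      · have := min_le_right V (a i - 2); omega
      · rcases le_total V (a i - 2) with h | h
        · rw [min_eq_left h]; omega
        · rw [min_eq_right h]; omega
    have e1 := coeff_H_pos (hH i (mem_insert_self _ _)) hai 0 v (Nat.zero_le _) (by omega)
    have e2 := ih (fun j hj => h2 j (mem_insert_of_mem hj)) (fun j hj => hH j (mem_insert_of_mem hj)) (V - v) hrest
    have h := coeff_mul_pos (NN_H (hH i (mem_insert_self _ _)))
      (NN.prod fun j hj => NN_H (hH j (mem_insert_of_mem hj))) e1 e2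
    rwa [ee_add, show v + (V - v) = V by omega] at h

end K568.HodgeSupp

namespace K568.HodgeMain

open K568.HodgeSupp

variable {d : ℕ} {a : Fin d → ℕ} (ha : ∀ i, 1 ≤ a i) {Hs : Fin d → W}
  (hH : ∀ i, (1 - Pser (a i)) * Hs i = Nser (a i))

/-- The Hodge series. -/
noncomputable def Hser (Hs : Fin d → W) : W :=
  ∑ P ∈ (Finset.univ : Finset (Fin d)).powerset with P.Nonempty,
      ((1 + X 0) * (1 + X 1)) ^ (P.card - 1) * ∏ i ∈ P, Hs i

include ha hH

theorem coeff_pos {p q : ℕ} (hpq : p ≤ q) (h : p + q + d < p * Finset.univ.sup a + ∑ i, a i) :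
    0 < coeff (ee p q) (Hser Hs) := by
  classical
  set A := Finset.univ.sup a with hA
  have hle : ∀ i, a i ≤ A := fun i => Finset.le_sup (f := a) (mem_univ i)
  have hd : 0 < d := by
    rcases Nat.eq_zero_or_pos d with rfl | hd
    · exfalso
      have h1 : A = 0 := by rw [hA]; simp
      rw [h1] at h
      simp at h
    · exact hd
  have : Nonempty (Fin d) := ⟨⟨0, hd⟩⟩
  obtain ⟨i₀, -, hi₀⟩ := Finset.exists_mem_eq_sup (Finset.univ : Finset (Fin d)) univ_nonempty a
  rw [← hA] at hi₀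
  set P := Finset.univ.filter (fun i => 2 ≤ a i) with hP
  have hsplit : ∑ i, a i + P.card = ∑ i ∈ P, a i + d := by
    have h1 : ∑ i, a i = ∑ i ∈ P, a i + ∑ i ∈ Finset.univ.filter (fun i => ¬ 2 ≤ a i), a i :=
      (Finset.sum_filter_add_sum_filter_not _ _ _).symm
    have h2 : ∑ i ∈ Finset.univ.filter (fun i => ¬ 2 ≤ a i), a i =
        (Finset.univ.filter (fun i => ¬ 2 ≤ a i)).card := by
      rw [Finset.card_eq_sum_ones]
      refine Finset.sum_congr rfl fun i hi => ?_
      have := (mem_filter.1 hi).2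
      have := ha i
      omega
    have h3 : P.card + (Finset.univ.filter (fun i => ¬ 2 ≤ a i)).card = d := by
      rw [hP, Finset.card_filter_add_card_filter_not, Finset.card_univ, Fintype.card_fin]
    omega
  have hi₀P : i₀ ∈ P := by
    rw [hP, mem_filter]
    refine ⟨mem_univ _, ?_⟩
    by_contra hlt
    have hA1 : A ≤ 1 := by omega
    have h1 : ∑ i, a i ≤ d := by
      have := Finset.sum_le_card_nsmul (Finset.univ : Finset (Fin d)) a 1 (fun i _ => (hle i).trans hA1)
      simpa using this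
    have h2 : p * A ≤ p := by
      have := Nat.mul_le_mul_left p hA1
      omega
    omega
  have hcard : 0 < P.card := Finset.card_pos.2 ⟨i₀, hi₀P⟩
  have hai : 2 ≤ a i₀ := (mem_filter.1 hi₀P).2
  -- the term of `P`
  have hP2 : ∀ i ∈ P.erase i₀, 2 ≤ a i := fun i hi => (mem_filter.1 (mem_of_mem_erase hi)).2
  have hsumP : ∑ i ∈ P, a i = a i₀ + ∑ i ∈ P.erase i₀, a i := (Finset.add_sum_erase P a hi₀P).symm
  have hcardP : (P.erase i₀).card = P.card - 1 := Finset.card_erase_of_mem hi₀P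
  have hs : 2 * (P.erase i₀).card ≤ ∑ j ∈ P.erase i₀, a j := by
    rw [mul_comm, ← smul_eq_mul]
    exact Finset.card_nsmul_le_sum _ a 2 fun j hj => hP2 j hj
  have hpA : p * 2 ≤ p * a i₀ := Nat.mul_le_mul_left p hai
  rw [hi₀] at h
  obtain ⟨w, V, t, hw, hV, ht1, ht2, hsum⟩ : ∃ w V t : ℕ, w ≤ P.card - 1 ∧
      V + 2 * (P.erase i₀).card ≤ ∑ i ∈ P.erase i₀, a i ∧ p ≤ t ∧ p + t + 2 ≤ p * a i₀ + a i₀ ∧
      w + (t + V) = q := by
    set S := ∑ i ∈ P.erase i₀, a i
    set T := p * a i₀ + a i₀ - 2 - p with hT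
    set e := P.card - 1
    by_cases h1 : q ≤ T
    · exact ⟨0, 0, q, Nat.zero_le _, by omega, hpq, by omega, by omega⟩
    · by_cases h2 : q - T ≤ S - 2 * e
      · exact ⟨0, q - T, T, Nat.zero_le _, by omega, by omega, by omega, by omega⟩
      · exact ⟨q - T - (S - 2 * e), S - 2 * e, T, by omega, by omega, by omega, by omega, by omega⟩
  have e1 := coeff_E_pos (P.card - 1) w hw
  have e2 := prod_pos (P.erase i₀) hP2 (fun i _ => hH i) V hV
  have e3 := coeff_H_pos (hH i₀) hai p t ht1 ht2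
  have e4 := coeff_mul_pos (NN_H (hH i₀)) (NN.prod fun j (_ : j ∈ P.erase i₀) => NN_H (hH j)) e3 e2
  rw [Finset.mul_prod_erase P Hs hi₀P, ee_add, add_zero] at e4
  have e5 := coeff_mul_pos (NN_E (P.card - 1)) (NN.prod fun j (_ : j ∈ P) => NN_H (hH j)) e1 e4
  rw [ee_add, zero_add, hsum] at e5
  rw [Hser, map_sum]
  refine lt_of_lt_of_le e5 ?_
  exact Finset.single_le_sum
    (f := fun P : Finset (Fin d) => coeff (ee p q) (((1 + X 0) * (1 + X 1) : W) ^ (P.card - 1) * ∏ i ∈ P, Hs i))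
    (fun Q _ => (NN_E (Q.card - 1)).mul (NN.prod fun j _ => NN_H (hH j)) _)
    (mem_filter.2 ⟨mem_powerset.2 (subset_univ _), ⟨i₀, hi₀P⟩⟩)

theorem lt_of_coeff_ne {p q : ℕ} (h : coeff (ee p q) (Hser Hs) ≠ 0) :
    p + q + d < p * Finset.univ.sup a + ∑ i, a i := by
  classical
  rw [Hser, map_sum] at h
  obtain ⟨P, hP, hne⟩ := Finset.exists_ne_zero_of_sum_ne_zero h
  have hPne : P.Nonempty := (mem_filter.1 hP).2
  set A := Finset.univ.sup a with hA
  have hle : ∀ i, a i ≤ A := fun i => Finset.le_sup (f := a) (mem_univ i)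
  obtain ⟨m₁, m₂, hm, h₁, h₂⟩ := exists_of_coeff_mul_ne_zero hne
  have e1 := le_of_coeff_E h₁ 0
  have e2 := le_of_coeff_E h₁ 1
  have e3 := bound_prod A P (fun i _ => hle i) (fun i _ => hH i) m₂ h₂
  have hp : m₁ 0 + m₂ 0 = p := by
    have := DFunLike.congr_fun hm 0
    rwa [Finsupp.add_apply, ee_zero] at this
  have hq : m₁ 1 + m₂ 1 = q := by
    have := DFunLike.congr_fun hm 1
    rwa [Finsupp.add_apply, ee_one] at this
  obtain ⟨i₁, hi₁⟩ := hPne
  have hA1 : 1 ≤ A := (ha i₁).trans (hle i₁)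
  have hcard : 0 < P.card := Finset.card_pos.2 ⟨i₁, hi₁⟩
  have hsplit : ∑ i ∈ P, a i + d ≤ ∑ i, a i + P.card := by
    have h1 : ∑ i, a i = ∑ i ∈ P, a i + ∑ i ∈ Pᶜ, a i := (Finset.sum_add_sum_compl P a).symm
    have h2 : Pᶜ.card ≤ ∑ i ∈ Pᶜ, a i := by
      rw [Finset.card_eq_sum_ones]
      exact Finset.sum_le_sum fun i _ => ha i
    have h3 : P.card + Pᶜ.card = d := by
      rw [Finset.card_add_card_compl, Fintype.card_fin]
    omega
  rw [← hp, ← hq]
  have e4 : (m₁ 0 + m₂ 0) * A = m₁ 0 * A + m₂ 0 * A := by ring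
  have e5 : m₁ 0 * 1 ≤ m₁ 0 * A := Nat.mul_le_mul_left _ hA1
  omega

theorem coeff_ne_zero_iff {p q : ℕ} (hpq : p ≤ q) :
    coeff (ee p q) (Hser Hs) ≠ 0 ↔ p + q + d < p * Finset.univ.sup a + ∑ i, a i :=
  ⟨lt_of_coeff_ne ha hH, fun h => (coeff_pos ha hH hpq h).ne'⟩

/-- The Hodge level criterion. -/
theorem level_iff {i₀ : Fin d} (hi₀ : ∀ i, a i ≤ a i₀) {n l : ℕ} (hl : l < n) (hpar : l % 2 = n % 2) :
    (∀ p q : ℕ, p + q = n → p ≤ q → l < q - p → coeff (ee p q) (Hser Hs) = 0) ↔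
      2 * (∑ i ∈ Finset.univ.erase i₀, ((a i : ℤ) - 1)) + ((a i₀ : ℤ) - 2) * ((n : ℤ) - l) ≤ 2 * ((l : ℤ) + 1) := by
  classical
  have hA : Finset.univ.sup a = a i₀ :=
    le_antisymm (Finset.sup_le fun i _ => hi₀ i) (Finset.le_sup (f := a) (mem_univ i₀))
  obtain ⟨s, hs⟩ : ∃ s : ℕ, n = l + 2 * (s + 1) := ⟨(n - l) / 2 - 1, by omega⟩
  have h1 : ∑ i ∈ Finset.univ.erase i₀, ((a i : ℤ) - 1) = (∑ i, (a i : ℤ)) - a i₀ - d + 1 := by
    have h2 := Finset.add_sum_erase Finset.univ (fun i => (a i : ℤ) - 1) (mem_univ i₀)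
    simp only [Finset.sum_sub_distrib, Finset.sum_const, Finset.card_univ, Fintype.card_fin] at h2 ⊢
    have h3 : (d • (1 : ℤ)) = d := by simp
    rw [h3] at h2
    linarith
  have key : (∀ p q : ℕ, p + q = n → p ≤ q → l < q - p → coeff (ee p q) (Hser Hs) = 0) ↔
      s * a i₀ + ∑ i, a i ≤ n + d := by
    constructor
    · intro h
      have h2 := h s (n - s) (by omega) (by omega) (by omega)
      by_contra h3
      exact (coeff_ne_zero_iff ha hH (show s ≤ n - s by omega)).2 (by rw [hA]; omega) h2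
    · intro h p q hpq hle hlt
      by_contra hne
      have h2 := (coeff_ne_zero_iff ha hH hle).1 hne
      rw [hA] at h2
      have h3 : p * a i₀ ≤ s * a i₀ := Nat.mul_le_mul_right _ (by omega)
      omega
  rw [key, h1]
  have h4 : (n : ℤ) = l + 2 * (s + 1) := by exact_mod_cast hs
  have h5 : (s * a i₀ + ∑ i, a i ≤ n + d) ↔ ((s : ℤ) * a i₀ + ∑ i, (a i : ℤ) ≤ n + d) := by
    exact_mod_cast Iff.rfl
  rw [h5, h4]
  constructor
  · intro h
    nlinarith
  · intro h
    nlinarith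

end K568.HodgeMain
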