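import Mathlib.RingTheory.MvPowerSeries.Basic
import Mathlib.Data.Nat.Choose.Basic
import Mathlib.Data.Nat.Choose.Sum
import Mathlib.Algebra.BigOperators.Group.Finset.Basic
import Mathlib.Tactic

/-! # The support of the Hodge generating series of complete intersections -/

set_option autoImplicit false

open Finset MvPowerSeries

namespace K568.HodgeSupp

/-- Series in two variables. -/
abbrev W := MvPowerSeries (Fin 2) ℤ

/-- All coefficients are nonnegative. -/
def NN (f : W) : Prop := ∀ m, 0 ≤ coeff m f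

theorem NN.add {f g : W} (hf : NN f) (hg : NN g) : NN (f + g) := fun m => by
  rw [map_add]; exact add_nonneg (hf m) (hg m)

theorem NN.mul {f g : W} (hf : NN f) (hg : NN g) : NN (f * g) := fun m => by
  rw [coeff_mul]; exact Finset.sum_nonneg fun p _ => mul_nonneg (hf _) (hg _)

theorem NN.one : NN (1 : W) := fun m => by
  classical
  rw [coeff_one]; split_ifs <;> norm_num

theorem NN.zero : NN (0 : W) := fun m => by rw [map_zero]

theorem NN.X (i : Fin 2) : NN (X i : W) := fun m => by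
  classical
  rw [coeff_X]; split_ifs <;> norm_num

theorem NN.pow {f : W} (hf : NN f) (n : ℕ) : NN (f ^ n) := by
  induction n with
  | zero => rw [pow_zero]; exact NN.one
  | succ n ih => rw [pow_succ]; exact ih.mul hf

theorem NN.prod {κ : Type*} {f : κ → W} {s : Finset κ} (h : ∀ i ∈ s, NN (f i)) : NN (∏ i ∈ s, f i) := by
  classical
  induction s using Finset.induction_on with
  | empty => rw [prod_empty]; exact NN.one
  | insert a s ha ih =>
    rw [prod_insert ha]
    exact (h a (mem_insert_self _ _)).mul (ih fun i hi => h i (mem_insert_of_mem hi))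

theorem coeff_mul_pos {f g : W} (hf : NN f) (hg : NN g) {m₁ m₂ : Fin 2 →₀ ℕ}
    (h₁ : 0 < coeff m₁ f) (h₂ : 0 < coeff m₂ g) : 0 < coeff (m₁ + m₂) (f * g) := by
  classical
  rw [coeff_mul]
  refine lt_of_lt_of_le (mul_pos h₁ h₂) ?_
  exact Finset.single_le_sum (f := fun p : (Fin 2 →₀ ℕ) × (Fin 2 →₀ ℕ) => coeff p.1 f * coeff p.2 g)
    (fun p _ => mul_nonneg (hf _) (hg _)) (a := (m₁, m₂)) (mem_antidiagonal.2 rfl)

theorem exists_of_coeff_mul_ne_zero {f g : W} {m : Fin 2 →₀ ℕ} (h : coeff m (f * g) ≠ 0) :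
    ∃ m₁ m₂, m₁ + m₂ = m ∧ coeff m₁ f ≠ 0 ∧ coeff m₂ g ≠ 0 := by
  classical
  rw [coeff_mul] at h
  obtain ⟨p, hp, hne⟩ := Finset.exists_ne_zero_of_sum_ne_zero h
  exact ⟨p.1, p.2, mem_antidiagonal.1 hp, left_ne_zero_of_mul hne, right_ne_zero_of_mul hne⟩

/-- The exponent with coordinates `u`, `v`. -/
noncomputable def ee (u v : ℕ) : Fin 2 →₀ ℕ := Finsupp.single 0 u + Finsupp.single 1 v

theorem ee_zero (u v : ℕ) : ee u v 0 = u := by simp [ee]

theorem ee_one (u v : ℕ) : ee u v 1 = v := by simp [ee]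

theorem ee_eq (m : Fin 2 →₀ ℕ) : ee (m 0) (m 1) = m := by
  ext i
  fin_cases i
  · exact ee_zero _ _
  · exact ee_one _ _

theorem ee_add (u v u' v' : ℕ) : ee u v + ee u' v' = ee (u + u') (v + v') := by
  ext i
  fin_cases i
  · simp [ee_zero]
  · simp [ee_one]

theorem ee_inj {u v u' v' : ℕ} : ee u v = ee u' v' ↔ u = u' ∧ v = v' :=
  ⟨fun h => ⟨by rw [← ee_zero u v, h, ee_zero], by rw [← ee_one u v, h, ee_one]⟩, fun h => by
    rw [h.1, h.2]⟩

theorem term_eq (c u v : ℕ) : ((c : W) * (X 0 : W) ^ u * (X 1 : W) ^ v) = monomial (ee u v) (c : ℤ) := by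
  rw [X_pow_eq, X_pow_eq, mul_assoc, monomial_mul_monomial, one_mul, ← nsmul_eq_mul, ← map_nsmul]
  simp [ee]

theorem coeff_term (c u v : ℕ) (p q : ℕ) : coeff (ee p q) ((c : W) * (X 0 : W) ^ u * (X 1 : W) ^ v) =
    if p = u ∧ q = v then (c : ℤ) else 0 := by
  classical
  rw [term_eq, coeff_monomial]
  simp only [ee_inj]

/-- The coefficient of a finite double sum. -/
theorem coeff_double (M N : ℕ) (c : ℕ → ℕ → ℕ) (cond : ℕ → ℕ → Prop) [∀ u v, Decidable (cond u v)] (p q : ℕ) :
    coeff (ee p q) (∑ u ∈ range M, ∑ v ∈ range N,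
      if cond u v then ((c u v : ℕ) : W) * (X 0 : W) ^ u * (X 1 : W) ^ v else 0) =
      if p < M ∧ q < N ∧ cond p q then (c p q : ℤ) else 0 := by
  classical
  rw [map_sum]
  simp only [map_sum]
  have h1 : ∀ u v : ℕ, coeff (ee p q) (if cond u v then ((c u v : ℕ) : W) * (X 0 : W) ^ u * (X 1 : W) ^ v else 0) =
      if p = u ∧ q = v then (if cond p q then (c p q : ℤ) else 0) else 0 := by
    intro u v
    by_cases h : cond u v
    · rw [if_pos h, coeff_term]
      by_cases h' : p = u ∧ q = v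
      · obtain ⟨rfl, rfl⟩ := h'
        rw [if_pos ⟨rfl, rfl⟩, if_pos ⟨rfl, rfl⟩, if_pos h]
      · rw [if_neg h', if_neg h']
    · rw [if_neg h, map_zero]
      by_cases h' : p = u ∧ q = v
      · obtain ⟨rfl, rfl⟩ := h'
        rw [if_pos ⟨rfl, rfl⟩, if_neg h]
      · rw [if_neg h']
  simp only [h1]
  by_cases hp : p < M
  · by_cases hq : q < N
    · rw [Finset.sum_eq_single p, Finset.sum_eq_single q]
      · by_cases h : cond p q
        · rw [if_pos ⟨rfl, rfl⟩, if_pos h, if_pos ⟨hp, hq, h⟩]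
        · rw [if_pos ⟨rfl, rfl⟩, if_neg h, if_neg fun h' => h h'.2.2]
      · intro v _ hv
        exact if_neg fun h => hv h.2.symm
      · intro h
        exact absurd (mem_range.2 hq) h
      · intro u _ hu
        exact Finset.sum_eq_zero fun v _ => if_neg fun h => hu h.1.symm
      · intro h
        exact absurd (mem_range.2 hp) h
    · rw [if_neg (show ¬ (p < M ∧ q < N ∧ cond p q) from fun h => hq h.2.1)]
      refine Finset.sum_eq_zero fun u _ => Finset.sum_eq_zero fun v hv => if_neg fun h => hq ?_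
      rw [h.2]
      exact mem_range.1 hv
  · rw [if_neg (show ¬ (p < M ∧ q < N ∧ cond p q) from fun h => hp h.1)]
    refine Finset.sum_eq_zero fun u hu => Finset.sum_eq_zero fun v _ => if_neg fun h => hp ?_
    rw [h.1]
    exact mem_range.1 hu

/-- The polynomial `P`. -/
noncomputable def Pser (b : ℕ) : W := ∑ u ∈ range (b + 1), ∑ v ∈ range (b + 1),
  if 1 ≤ u ∧ 1 ≤ v ∧ u + v ≤ b then ((b.choose (u + v) : ℕ) : W) * (X 0 : W) ^ u * (X 1 : W) ^ v else 0

/-- The polynomial `N`. -/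
noncomputable def Nser (b : ℕ) : W := ∑ u ∈ range b, ∑ v ∈ range b,
  if u + v + 1 ≤ b - 1 then (((b - 1).choose (u + v + 1) : ℕ) : W) * (X 0 : W) ^ u * (X 1 : W) ^ v else 0

theorem coeff_P (b p q : ℕ) : coeff (ee p q) (Pser b) =
    if 1 ≤ p ∧ 1 ≤ q ∧ p + q ≤ b then (b.choose (p + q) : ℤ) else 0 := by
  rw [Pser, coeff_double (b + 1) (b + 1) (fun u v => b.choose (u + v)) (fun u v => 1 ≤ u ∧ 1 ≤ v ∧ u + v ≤ b)]
  by_cases h : 1 ≤ p ∧ 1 ≤ q ∧ p + q ≤ b
  · rw [if_pos h, if_pos ⟨by omega, by omega, h⟩]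
  · rw [if_neg h, if_neg fun h' => h h'.2.2]

theorem coeff_N (b p q : ℕ) : coeff (ee p q) (Nser b) =
    if p + q + 1 ≤ b - 1 then ((b - 1).choose (p + q + 1) : ℤ) else 0 := by
  rw [Nser, coeff_double b b (fun u v => (b - 1).choose (u + v + 1)) (fun u v => u + v + 1 ≤ b - 1)]
  by_cases h : p + q + 1 ≤ b - 1
  · rw [if_pos h, if_pos ⟨by omega, by omega, h⟩]
  · rw [if_neg h, if_neg fun h' => h h'.2.2]

theorem NN_P (b : ℕ) : NN (Pser b) := fun m => by
  rw [← ee_eq m, coeff_P]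
  split_ifs
  · exact_mod_cast Nat.zero_le _
  · exact le_rfl

theorem NN_N (b : ℕ) : NN (Nser b) := fun m => by
  rw [← ee_eq m, coeff_N]
  split_ifs
  · exact_mod_cast Nat.zero_le _
  · exact le_rfl

variable {a : ℕ} {H : W} (hH : (1 - Pser a) * H = Nser a)

include hH

theorem H_eq : H = Nser a + Pser a * H := by
  rw [← hH]; ring

/-- Nonnegativity and the upper bound. -/
theorem bound_H : ∀ (t : ℕ) (m : Fin 2 →₀ ℕ), m 0 + m 1 < t →
    0 ≤ coeff m H ∧ (coeff m H ≠ 0 → m 0 + m 1 + 2 ≤ m 0 * a + a) := by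
  classical
  intro t
  induction t with
  | zero => intro m hm; omega
  | succ t ih =>
    intro m hm
    have h1 : coeff m H = coeff m (Nser a) + ∑ p ∈ antidiagonal m, coeff p.1 (Pser a) * coeff p.2 H := by
      conv_lhs => rw [H_eq hH]
      rw [map_add, coeff_mul]
    have h2 : ∀ p ∈ antidiagonal m, 0 ≤ coeff p.1 (Pser a) * coeff p.2 H ∧
        (coeff p.1 (Pser a) * coeff p.2 H ≠ 0 → m 0 + m 1 + 2 ≤ m 0 * a + a) := by
      intro p hp
      have hpm := mem_antidiagonal.1 hp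
      by_cases hP : coeff p.1 (Pser a) = 0
      · rw [hP, zero_mul]
        exact ⟨le_rfl, fun h => absurd rfl h⟩
      · have hP' := hP
        rw [← ee_eq p.1, coeff_P] at hP'
        have hc : 1 ≤ p.1 0 ∧ 1 ≤ p.1 1 ∧ p.1 0 + p.1 1 ≤ a := by
          by_contra hc
          exact hP' (if_neg hc)
        have hm0 : m 0 = p.1 0 + p.2 0 := by rw [← hpm]; rfl
        have hm1 : m 1 = p.1 1 + p.2 1 := by rw [← hpm]; rfl
        obtain ⟨h3, h4⟩ := ih p.2 (by omega)
        refine ⟨mul_nonneg (NN_P a _) h3, fun hne => ?_⟩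
        have h5 := h4 (right_ne_zero_of_mul hne)
        rw [hm0, hm1]
        have h6 : (p.2 0 + 1) * a ≤ (p.1 0 + p.2 0) * a := Nat.mul_le_mul_right a (by omega)
        have h7 : (p.2 0 + 1) * a = p.2 0 * a + a := by ring
        omega
    refine ⟨?_, fun hne => ?_⟩
    · rw [h1]
      exact add_nonneg (NN_N a m) (Finset.sum_nonneg fun p hp => (h2 p hp).1)
    · by_contra hlt
      apply hne
      rw [h1]
      have h3 : coeff m (Nser a) = 0 := by
        rw [← ee_eq m, coeff_N]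
        refine if_neg fun h => hlt ?_
        have : 0 ≤ m 0 * a := Nat.zero_le _
        omega
      rw [h3, zero_add]
      refine Finset.sum_eq_zero fun p hp => ?_
      by_contra h4
      exact hlt ((h2 p hp).2 h4)

theorem NN_H : NN H := fun m => (bound_H hH (m 0 + m 1 + 1) m (Nat.lt_succ_self _)).1

theorem le_of_coeff_H_ne {m : Fin 2 →₀ ℕ} (h : coeff m H ≠ 0) : m 0 + m 1 + 2 ≤ m 0 * a + a :=
  (bound_H hH (m 0 + m 1 + 1) m (Nat.lt_succ_self _)).2 h

/-- Positivity. -/
theorem coeff_H_pos (ha : 2 ≤ a) : ∀ p q : ℕ, p ≤ q → p + q + 2 ≤ p * a + a → 0 < coeff (ee p q) H := by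
  intro p
  induction p with
  | zero =>
    intro q _ hq
    rw [H_eq hH, map_add]
    have h1 : 0 < coeff (ee 0 q) (Nser a) := by
      rw [coeff_N, if_pos (by omega)]
      exact_mod_cast Nat.choose_pos (by omega)
    exact lt_of_lt_of_le h1 (le_add_of_nonneg_right ((NN_P a).mul (NN_H hH) _))
  | succ p ih =>
    intro q hpq hq
    obtain ⟨v, hv1, hva, hvp, hvq⟩ : ∃ v, 1 ≤ v ∧ v + 1 ≤ a ∧ p + v ≤ q ∧ p + (q - v) + 2 ≤ p * a + a := by
      by_cases h : q - p ≤ a - 1
      · refine ⟨q - p, by omega, by omega, by omega, ?_⟩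
        have h2 : p * 2 ≤ p * a := Nat.mul_le_mul_left p ha
        omega
      · refine ⟨a - 1, by omega, by omega, by omega, ?_⟩
        have h2 : (p + 1) * a = p * a + a := by ring
        omega
    have h1 := ih (q - v) (by omega) hvq
    have h2 : 0 < coeff (ee 1 v) (Pser a) := by
      rw [coeff_P, if_pos (by omega)]
      exact_mod_cast Nat.choose_pos (by omega)
    have h3 := coeff_mul_pos (NN_P a) (NN_H hH) h2 h1
    rw [ee_add, show v + (q - v) = q by omega, add_comm 1 p] at h3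
    rw [H_eq hH, map_add]
    exact lt_of_lt_of_le h3 (le_add_of_nonneg_left (NN_N a _))

/-! ### Products -/

end K568.HodgeSupp
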