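import Groth.Agent.LefPen.K568.DetLemma
import Mathlib.LinearAlgebra.Matrix.Determinant.Basic
import Mathlib.Algebra.MvPolynomial.CommRing
import Mathlib.RingTheory.Ideal.Maximal
import Mathlib.Algebra.Module.Projective
import Mathlib.LinearAlgebra.StdBasis
import Mathlib.LinearAlgebra.Matrix.MvPolynomial
import Mathlib.RingTheory.Ideal.Quotient.Basic

/-! # The ideal of a direct summand of a free module and maximal minors -/

set_option autoImplicit false
universe u

namespace K568.Minors

open MvPolynomial K568.DetLemma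

variable {A : Type u} [CommRing A] {N s : ℕ} (m : Fin s → (Fin (N + 1) → A))

/-- A retraction onto a direct summand, in coordinates. -/
theorem exists_retraction (hli : LinearIndependent A m)
    (hproj : Module.Projective A ((Fin (N + 1) → A) ⧸ Submodule.span A (Set.range m))) :
    ∃ R : Fin s → Fin (N + 1) → A, ∀ i i', ∑ j, R i j * m i' j = if i = i' then 1 else 0 := by
  classical
  set W := Submodule.span A (Set.range m) with hW
  obtain ⟨g, hg⟩ := Module.projective_lifting_property W.mkQ LinearMap.id (Submodule.mkQ_surjective W)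
  -- the projection
  let p : (Fin (N + 1) → A) →ₗ[A] W := LinearMap.codRestrict W (LinearMap.id - g ∘ₗ W.mkQ) fun x => by
    have h1 := LinearMap.congr_fun hg (W.mkQ x)
    rw [LinearMap.comp_apply, LinearMap.id_apply] at h1
    have h2 : W.mkQ (x - g (W.mkQ x)) = 0 := by rw [map_sub, h1, sub_self]
    exact (Submodule.Quotient.mk_eq_zero W).1 h2
  have hp : ∀ x : W, p x.1 = x := fun x => by
    apply Subtype.ext
    change x.1 - g (W.mkQ x.1) = x.1
    rw [show W.mkQ x.1 = 0 from (Submodule.Quotient.mk_eq_zero W).2 x.2, map_zero, sub_zero]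
  let q : (Fin (N + 1) → A) →ₗ[A] (Fin s →₀ A) := hli.repr ∘ₗ p
  have hq : ∀ i, q (m i) = Finsupp.single i 1 := fun i => by
    change hli.repr (p (m i)) = _
    rw [hp ⟨m i, Submodule.subset_span ⟨i, rfl⟩⟩]
    exact hli.repr_eq_single i _ rfl
  refine ⟨fun i j => q (Pi.single j 1) i, fun i i' => ?_⟩
  have h1 : m i' = ∑ j, m i' j • (Pi.single j (1 : A) : Fin (N + 1) → A) := by
    funext l
    rw [Finset.sum_apply, Finset.sum_eq_single l]
    · simp
    · intro b _ hb
      simp [Ne.symm hb]
    · intro h
      exact absurd (Finset.mem_univ l) h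
  have h2 := congrArg (fun f : Fin s →₀ A => f i) (hq i')
  rw [h1] at h2
  rw [map_sum, Finsupp.finsetSum_apply] at h2
  simp only [map_smul, Finsupp.smul_apply, smul_eq_mul] at h2
  rw [Finsupp.single_apply] at h2
  rw [show (if i = i' then (1 : A) else 0) = if i' = i then 1 else 0 by simp [eq_comm], ← h2]
  exact Finset.sum_congr rfl fun j _ => mul_comm _ _

variable {m} {R : Fin s → Fin (N + 1) → A} (hR : ∀ i i', ∑ j, R i j * m i' j = if i = i' then 1 else 0)

include hR in
/-- The maximal minors generate the unit ideal. -/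
theorem span_minors : Ideal.span (Set.range fun c : Fin s → Fin (N + 1) =>
    (Matrix.of fun i j => m i (c j)).det) = ⊤ := by
  classical
  by_contra hne
  obtain ⟨M, hM, hle⟩ := Ideal.exists_le_maximal _ hne
  let _ : Field (A ⧸ M) := Ideal.Quotient.field M
  let φ : A →+* A ⧸ M := Ideal.Quotient.mk M
  let v : Fin (N + 1) → Module.Dual (A ⧸ M) (Fin s → A ⧸ M) := fun j =>
    ∑ i, φ (m i j) • LinearMap.proj i
  have hv : ∀ j x, v j x = ∑ i, φ (m i j) * x i := fun j x => by
    rw [LinearMap.sum_apply]
    rfl
  obtain ⟨c, hc⟩ := exists_det_ne_zero (Pi.basisFun (A ⧸ M) (Fin s)) v fun x hx => by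
    funext i
    have h1 : ∑ j, φ (R i j) * v j x = 0 := Finset.sum_eq_zero fun j _ => by rw [hx j, mul_zero]
    simp only [hv, Finset.mul_sum] at h1
    rw [Finset.sum_comm] at h1
    have h2 : ∀ i', ∑ j, φ (R i j) * (φ (m i' j) * x i') = (if i = i' then 1 else 0) * x i' := fun i' => by
      rw [show (if i = i' then (1 : A ⧸ M) else 0) = φ (if i = i' then 1 else 0) by split_ifs <;> simp,
        ← hR i i', map_sum, Finset.sum_mul]
      exact Finset.sum_congr rfl fun j _ => by rw [map_mul]; ring
    simp only [h2, ite_mul, one_mul, zero_mul, Finset.sum_ite_eq, Finset.mem_univ, if_true] at h1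
    exact h1
  apply hc
  have h1 : (Matrix.of fun i j => m i (c j)).det ∈ M := hle (Ideal.subset_span ⟨c, rfl⟩)
  have h2 : φ ((Matrix.of fun i j => m i (c j)).det) = 0 := Ideal.Quotient.eq_zero_iff_mem.2 h1
  rw [RingHom.map_det, ← Matrix.det_transpose] at h2
  have h3 : (Matrix.of fun i j => v (c i) (Pi.basisFun (A ⧸ M) (Fin s) j)) =
      (φ.mapMatrix (Matrix.of fun i j => m i (c j))).transpose := by
    ext1 i j
    simp only [Matrix.of_apply, Matrix.transpose_apply, RingHom.mapMatrix_apply, Matrix.map_apply, hv, Pi.basisFun_apply]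
    rw [Finset.sum_eq_single j]
    · simp
    · intro b _ hb
      simp [hb]
    · intro h
      exact absurd (Finset.mem_univ j) h
  rw [h3]
  exact h2

/-- The matrix of the statement. -/
noncomputable abbrev Mat (m : Fin s → (Fin (N + 1) → A)) (c : Fin (s + 1) → Fin (N + 1)) :
    Matrix (Fin (s + 1)) (Fin (s + 1)) (MvPolynomial (Fin (N + 1)) A) :=
  Matrix.of fun (i : Fin (s + 1)) (j : Fin (s + 1)) =>
          (Fin.snoc (α := fun _ => MvPolynomial (Fin (N + 1)) A)
            (fun i' : Fin s => MvPolynomial.C (m i' (c j))) (MvPolynomial.X (c j)) i)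

/-- The ideal of the maximal minors. -/
noncomputable abbrev J (m : Fin s → (Fin (N + 1) → A)) : Ideal (MvPolynomial (Fin (N + 1)) A) :=
  Ideal.span (Set.range fun c : Fin (s + 1) → Fin (N + 1) => (Mat m c).det)

/-- The column vector attached to the index `j`. -/
noncomputable def col (m : Fin s → (Fin (N + 1) → A)) (j : Fin (N + 1)) : Fin (s + 1) → MvPolynomial (Fin (N + 1)) A :=
  Fin.snoc (α := fun _ => MvPolynomial (Fin (N + 1)) A) (fun i' : Fin s => MvPolynomial.C (m i' j)) (MvPolynomial.X j)

/-- The cofactors along the last column. -/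
noncomputable def cof (m : Fin s → (Fin (N + 1) → A)) (c : Fin s → Fin (N + 1)) (i : Fin (s + 1)) :
    MvPolynomial (Fin (N + 1)) A :=
  (-1) ^ ((i : ℕ) + s) * (Matrix.of fun (l : Fin s) (j : Fin s) => col m (c j) (i.succAbove l)).det

/-- The functional `v ↦ det (…, v)`. -/
noncomputable def L (m : Fin s → (Fin (N + 1) → A)) (c : Fin s → Fin (N + 1)) :
    (Fin (s + 1) → MvPolynomial (Fin (N + 1)) A) →ₗ[MvPolynomial (Fin (N + 1)) A] MvPolynomial (Fin (N + 1)) A :=
  ∑ i, cof m c i • LinearMap.proj i

theorem L_apply (c : Fin s → Fin (N + 1)) (v : Fin (s + 1) → MvPolynomial (Fin (N + 1)) A) :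
    L m c v = ∑ i, cof m c i * v i := by
  rw [L, LinearMap.sum_apply]
  rfl

theorem L_col (c : Fin s → Fin (N + 1)) (j : Fin (N + 1)) :
    L m c (col m j) = (Mat m (Fin.snoc (α := fun _ => Fin (N + 1)) c j)).det := by
  rw [L_apply, Matrix.det_succ_column _ (Fin.last s)]
  refine Finset.sum_congr rfl fun i _ => ?_
  have h1 : (Mat m (Fin.snoc (α := fun _ => Fin (N + 1)) c j)) i (Fin.last s) = col m j i := by
    simp only [Mat, Matrix.of_apply, Fin.snoc_last]
    rfl
  have h2 : (Mat m (Fin.snoc (α := fun _ => Fin (N + 1)) c j)).submatrix i.succAbove (Fin.last s).succAbove =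
      Matrix.of fun (l : Fin s) (j : Fin s) => col m (c j) (i.succAbove l) := by
    ext1 l t
    simp only [Mat, Matrix.submatrix_apply, Matrix.of_apply, Fin.succAbove_last, Fin.snoc_castSucc]
    rfl
  rw [h1, h2, cof, Fin.val_last]
  ring

theorem L_col_mem (c : Fin s → Fin (N + 1)) (j : Fin (N + 1)) : L m c (col m j) ∈ J m := by
  rw [L_col]
  exact Ideal.subset_span ⟨_, rfl⟩

theorem cof_last (c : Fin s → Fin (N + 1)) :
    cof m c (Fin.last s) = C ((Matrix.of fun i j => m i (c j)).det) := by
  rw [cof, Fin.val_last, Even.neg_one_pow ⟨s, rfl⟩, one_mul, RingHom.map_det]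
  congr 1
  ext1 l t
  simp [col, Fin.succAbove_last]

/-- The linear form `σ (Y_i)`. -/
noncomputable def sg (R : Fin s → Fin (N + 1) → A) (i : Fin s) : MvPolynomial (Fin (N + 1)) A :=
  ∑ j, C (R i j) * X j

include hR in
/-- The key identity. -/
theorem key (c : Fin s → Fin (N + 1)) (j : Fin (N + 1)) :
    C ((Matrix.of fun i j => m i (c j)).det) * (X j - ∑ i, C (m i j) * sg R i) ∈ J m := by
  have h1 : (∑ l, (C (if l = j then (1 : A) else 0) : MvPolynomial (Fin (N + 1)) A) • col m l) -
      (∑ i, (C (m i j) : MvPolynomial (Fin (N + 1)) A) • ∑ l, (C (R i l) : MvPolynomial (Fin (N + 1)) A) • col m l) =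
      fun t => if t = Fin.last s then X j - ∑ i, C (m i j) * sg R i else 0 := by
    funext t
    rw [Pi.sub_apply, Finset.sum_apply, Finset.sum_apply]
    simp only [Pi.smul_apply, Finset.sum_apply, smul_eq_mul]
    refine Fin.lastCases ?_ (fun t => ?_) t
    · rw [if_pos rfl, Finset.sum_eq_single j]
      · simp [col, sg]
      · intro b _ hb
        simp [hb]
      · intro h
        exact absurd (Finset.mem_univ j) h
    · rw [if_neg (Fin.castSucc_lt_last t).ne, Finset.sum_eq_single j]
      · simp only [col, Fin.snoc_castSucc, if_true, map_one, one_mul]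
        have h2 : ∀ i, ∑ l, (C (R i l) : MvPolynomial (Fin (N + 1)) A) * C (m t l) =
            (C (if i = t then (1 : A) else 0) : MvPolynomial (Fin (N + 1)) A) :=
          fun i => by
            rw [← hR i t, map_sum]
            exact Finset.sum_congr rfl fun l _ => (map_mul _ _ _).symm
        simp only [h2]
        rw [Finset.sum_eq_single t]
        · simp
        · intro b _ hb
          simp [hb]
        · intro h
          exact absurd (Finset.mem_univ t) h
      · intro b _ hb
        simp [hb]
      · intro h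
        exact absurd (Finset.mem_univ j) h
  have h2 := congrArg (L m c) h1
  rw [L_apply (v := fun t => if t = Fin.last s then X j - ∑ i, C (m i j) * sg R i else 0),
    Finset.sum_eq_single (Fin.last s)] at h2
  · rw [if_pos rfl, cof_last] at h2
    rw [← h2, map_sub, map_sum, map_sum]
    refine Ideal.sub_mem _ (Submodule.sum_mem _ fun l _ => ?_) (Submodule.sum_mem _ fun i _ => ?_)
    · rw [map_smul]
      exact Ideal.mul_mem_left _ _ (L_col_mem c l)
    · rw [map_smul, map_sum]
      refine Ideal.mul_mem_left _ _ (Submodule.sum_mem _ fun l _ => ?_)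
      rw [map_smul]
      exact Ideal.mul_mem_left _ _ (L_col_mem c l)
  · intro b _ hb
    rw [if_neg hb, mul_zero]
  · intro h
    exact absurd (Finset.mem_univ _) h

include hR in
theorem sub_mem (j : Fin (N + 1)) : X j - ∑ i, C (m i j) * sg R i ∈ J m := by
  have h1 : (1 : A) ∈ Ideal.span (Set.range fun c : Fin s → Fin (N + 1) =>
    (Matrix.of fun i j => m i (c j)).det) := by rw [span_minors hR]; exact Submodule.mem_top
  have h2 : ∀ a ∈ Ideal.span (Set.range fun c : Fin s → Fin (N + 1) =>
    (Matrix.of fun i j => m i (c j)).det), C a * (X j - ∑ i, C (m i j) * sg R i) ∈ J m := by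
    intro a ha
    induction ha using Submodule.span_induction with
    | mem x hx =>
      obtain ⟨c, rfl⟩ := hx
      exact key hR c j
    | zero => rw [map_zero, zero_mul]; exact Ideal.zero_mem _
    | add x y _ _ hx hy => rw [map_add, add_mul]; exact Ideal.add_mem _ hx hy
    | smul b x _ hx =>
      rw [smul_eq_mul, map_mul, mul_assoc]
      exact Ideal.mul_mem_left _ _ hx
  have := h2 1 h1
  rwa [map_one, one_mul] at this

/-- The restriction of linear forms. -/
noncomputable abbrev π (m : Fin s → (Fin (N + 1) → A)) : MvPolynomial (Fin (N + 1)) A →ₐ[A] MvPolynomial (Fin s) A :=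
  MvPolynomial.aeval (R := A) (S₁ := MvPolynomial (Fin s) A)
        (fun j : Fin (N + 1) => ∑ i : Fin s, MvPolynomial.C (m i j) * MvPolynomial.X i)

theorem J_le : J m ≤ RingHom.ker (π m) := by
  rw [J, Ideal.span_le]
  rintro _ ⟨c, rfl⟩
  rw [SetLike.mem_coe, RingHom.mem_ker]
  change (π m) (Mat m c).det = 0
  rw [AlgHom.map_det]
  have h1 : ∀ (i : Fin s) j, (AlgHom.mapMatrix (π m) (Mat m c)) (Fin.castSucc i) j = C (m i (c j)) := by
    intro i j
    simp only [AlgHom.mapMatrix_apply, Matrix.map_apply, Mat, Matrix.of_apply, Fin.snoc_castSucc]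
    exact aeval_C _ _
  have h2 : ∀ j, (AlgHom.mapMatrix (π m) (Mat m c)) (Fin.last s) j =
      ∑ i : Fin s, X i * (AlgHom.mapMatrix (π m) (Mat m c)) (Fin.castSucc i) j := by
    intro j
    simp only [h1]
    simp only [AlgHom.mapMatrix_apply, Matrix.map_apply, Mat, Matrix.of_apply, Fin.snoc_last]
    rw [π, aeval_X]
    exact Finset.sum_congr rfl fun i _ => mul_comm _ _
  set M' := AlgHom.mapMatrix (π m) (Mat m c) with hM'
  let w : Fin (s + 1) → MvPolynomial (Fin s) A :=
    Fin.snoc (α := fun _ => MvPolynomial (Fin s) A) (fun i => X i) (-1)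
  have h3 : Matrix.vecMul w M' = 0 := by
    funext j
    rw [Matrix.vecMul, dotProduct, Fin.sum_univ_castSucc]
    simp only [w, Fin.snoc_castSucc, Fin.snoc_last, Pi.zero_apply]
    rw [h2 j]
    ring
  have h4 := congrArg (fun x => Matrix.vecMul x M'.adjugate) h3
  simp only [Matrix.vecMul_vecMul, Matrix.mul_adjugate, Matrix.zero_vecMul] at h4
  have h5 := congrFun h4 (Fin.last s)
  rw [Matrix.vecMul_smul, Matrix.vecMul_one, Pi.smul_apply, Pi.zero_apply] at h5
  simp only [w, Fin.snoc_last, smul_eq_mul, mul_neg, mul_one, neg_eq_zero] at h5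
  exact h5

theorem main (hli : LinearIndependent A m)
    (hproj : Module.Projective A ((Fin (N + 1) → A) ⧸ Submodule.span A (Set.range m))) :
    RingHom.ker (π m) = J m := by
  obtain ⟨R, hR⟩ := exists_retraction m hli hproj
  refine le_antisymm (fun f hf => ?_) J_le
  let σ : MvPolynomial (Fin s) A →ₐ[A] MvPolynomial (Fin (N + 1)) A := aeval (sg R)
  have h1 : ∀ f, f - σ (π m f) ∈ J m := by
    intro f
    induction f using MvPolynomial.induction_on with
    | C a =>
      rw [show π m (C a) = algebraMap A _ a from aeval_C _ _, AlgHom.commutes, MvPolynomial.algebraMap_eq, sub_self]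
      exact Ideal.zero_mem _
    | add p q hp hq =>
      rw [map_add, map_add, add_sub_add_comm]
      exact Ideal.add_mem _ hp hq
    | mul_X p j hp =>
      have h2 : σ (π m (X j)) = ∑ i, C (m i j) * sg R i := by
        rw [π, aeval_X, map_sum]
        refine Finset.sum_congr rfl fun i _ => ?_
        rw [map_mul, show σ (X i) = sg R i from aeval_X _ _, show σ (C (m i j)) = algebraMap A _ (m i j) from aeval_C _ _]
        rfl
      have h3 := sub_mem hR j
      rw [← h2] at h3
      have h4 : p * X j - σ (π m (p * X j)) = (p - σ (π m p)) * X j + σ (π m p) * (X j - σ (π m (X j))) := by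
        rw [map_mul, map_mul]
        ring
      rw [h4]
      exact Ideal.add_mem _ (Ideal.mul_mem_right _ _ hp) (Ideal.mul_mem_left _ _ h3)
  have h5 := h1 f
  have h6 : π m f = 0 := hf
  rwa [h6, map_zero, sub_zero] at h5

end K568.Minors
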