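import Groth.Agent.LefPen.K568.HypCI
import Groth.Agent.Lefpen.H608.CIH1
import Groth.Agent.Lefpen.H278.BigVanish
import Groth.Agent.CurvesB.HZero

/-! # Cohomology of the structure sheaf of a smooth quadric -/

set_option autoImplicit false
universe u

open CategoryTheory AlgebraicGeometry

namespace K568.Quadric

open LefPen Groth.Agent.Lefpen.H718.Chart Groth.Agent.Lefpen.H278.RingIso
open Groth.Agent.Lefpen.H722.Sys Groth.Agent.Lefpen.H728.OcSys

variable {k : Type u} [Field k]

/-- If `h^0(O_X) = 1` the map `k → Γ(X, O_X)` is bijective. -/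
theorem bijective_appTop {X : Scheme.{u}} (f : X ⟶ Spec (CommRingCat.of k))
    (h : letI : X.Over (Spec (CommRingCat.of k)) := ⟨f⟩
      Module.finrank k (Coh.HH X (Coh.structureModule X) 0) = 1) :
    Function.Bijective f.appTop.hom := by
  letI : X.Over (Spec (CommRingCat.of k)) := ⟨f⟩
  have hnt : Nontrivial Γ(X, ⊤) := Groth.Agent.CurvesB.HZero.nontrivial_of_h0 k h
  have hb : Function.Bijective (Groth.Agent.CurvesB.HZero.gl k X) :=
    ⟨(Groth.Agent.CurvesB.HZero.gl k X).injective, Groth.Agent.CurvesB.HZero.exists_const k h⟩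
  have h1 : Function.Bijective (f.appTop.hom.comp (Scheme.ΓSpecIso (CommRingCat.of k)).inv.hom) := hb
  have h2 : Function.Bijective (Scheme.ΓSpecIso (CommRingCat.of k)).inv.hom :=
    ConcreteCategory.bijective_of_isIso (Scheme.ΓSpecIso (CommRingCat.of k)).inv
  rw [RingHom.coe_comp] at h1
  exact (Function.Bijective.of_comp_iff _ h2).mp h1

variable (n : ℕ) (hn : 1 ≤ n) (F : ∀ _ : Fin 1, Form (n + 1) k 2)
  [SmoothOfRelativeDimension n (yStr (a := fun _ : Fin 1 => 2) F)]

include hn

theorem main : (∀ i : ℕ, 1 ≤ i → Subsingleton (Coh.HH (Y (a := fun _ : Fin 1 => 2) F)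
      (Coh.structureModule (Y (a := fun _ : Fin 1 => 2) F)) i)) ∧
    Function.Bijective (yStr (a := fun _ : Fin 1 => 2) F).appTop.hom := by
  have hht := Groth.Agent.Lefpen.H718.JacCI.le_height_ci (a := fun _ : Fin 1 => 2) F (n := n) rfl
  have ha : ∀ j : Fin 1, 1 ≤ (fun _ : Fin 1 => 2) j := fun _ => one_le_two
  constructor
  · intro i hi
    rcases Nat.lt_trichotomy i n with hin | rfl | hin
    · exact Groth.Agent.Lefpen.H608.CIH1.subsingleton_HH_of_smooth (n := n) (a := fun _ : Fin 1 => 2) F rfl ha i hi hin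
    · letI : (Y (a := fun _ : Fin 1 => 2) F).Over (Spec (CommRingCat.of k)) := ⟨yStr (a := fun _ : Fin 1 => 2) F⟩
      obtain ⟨e⟩ := Groth.Agent.Lefpen.H608.CIH1.nonempty_equiv_Oc (a := fun _ : Fin 1 => 2) F rfl i
      obtain ⟨q, rfl⟩ : ∃ q, i = q + 1 := ⟨i - 1, by omega⟩
      have h1 : Subsingleton (H (Oc (Gp (a := fun _ : Fin 1 => 2) F) (fun _ : Fin 1 => 2) 1 0) (q + 1)) := by
        refine Groth.Agent.Lefpen.H728.OcSys.subsingleton_top (Gp (a := fun _ : Fin 1 => 2) F)
          (fun _ : Fin 1 => 2) ha (fun j => (F j).2) hht 1 le_rfl q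
          (by rw [Fintype.card_fin]) 0 ?_
        have h3 : A (fun _ : Fin 1 => 2) 1 = 2 := by
          unfold A
          simp
        rw [h3, Fintype.card_fin]
        push_cast
        omega
      exact e.symm.toEquiv.subsingleton
    · exact Groth.Agent.Lefpen.H278.BigVanish.subsingleton_HH (a := fun _ : Fin 1 => 2) F n _ i hin
  · apply bijective_appTop
    letI : (Y (a := fun _ : Fin 1 => 2) F).Over (Spec (CommRingCat.of k)) := ⟨yStr (a := fun _ : Fin 1 => 2) F⟩
    obtain ⟨e⟩ := Groth.Agent.Lefpen.H608.CIH1.nonempty_equiv_Oc (a := fun _ : Fin 1 => 2) F rfl 0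
    exact e.finrank_eq.symm.trans (Groth.Agent.Lefpen.H728.OcSys.finrank_zero (Gp (a := fun _ : Fin 1 => 2) F)
      (fun _ : Fin 1 => 2) ha (fun j => (F j).2) hht 1 le_rfl (by rw [Fintype.card_fin]; omega))

end K568.Quadric
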