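import Groth.Agent.LefPen.K568.TanSurf

/-!
# `Ext^1(i^* Ω, O_Z) = 0` for a hypersurface `Z` outside the exceptional cases
-/

set_option autoImplicit false
universe u

open CategoryTheory CategoryTheory.Limits AlgebraicGeometry CategoryTheory.Abelian
open Groth.Agent Groth.Agent.Sga67.TwistProj K54.HodgePn K482.TensCalc
open Groth.Agent.CohqB.HomSheaf (homSheaf)

namespace K568.TanExt

open K568.TanHyp K568.TanSurf

variable (k : Type u) [Field k] (n : ℕ) {d : ℕ} (F : LefPen.Form n k d) (hF : F ≠ 0)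

theorem nonempty_iso {Z : Scheme.{u}} (i : Z ⟶ CohB1.ProjSpace n k) :
    Nonempty ((Scheme.Modules.pullback i).obj (T k n) ≅
      homSheaf ((Scheme.Modules.pullback i).obj (Omega.sheaf (CohB1.ProjSpace.toSpec n k)))
        (Coh.structureModule Z)) := by
  obtain ⟨t⟩ := K994.PullHom.nonempty_iso (g := i) (Krr.H463.DualLam.isFinLocFree_of_rank (rank_omega n k))
    (N := Coh.structureModule (CohB1.ProjSpace n k))
    (Ega2.QCohLocal.isFinLocFreeOfRank_one_iff.mpr Fdesc.LocGen.isInvertible_structureModule)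
  exact ⟨t ≪≫ (Groth.Agent.Dcoh.MonClosed.homFunctor _).mapIso (Groth.Agent.ASBun.K791.Tens.pullUnit i)⟩

/-- The vanishing which makes all deformations embedded. -/
theorem subsingleton_ext [HasExt.{u} (LefPen.hypIdeal F).subscheme.Modules] (hn : 2 ≤ n) (hd : 1 ≤ d) (hF : F ≠ 0)
    (hnd : ¬ ((n = 2 ∧ 5 ≤ d) ∨ (n = 3 ∧ d = 4))) :
    Subsingleton (Ext.{u} ((Scheme.Modules.pullback (LefPen.hypIdeal F).subschemeι).obj
      (Omega.sheaf (CohB1.ProjSpace.toSpec n k))) (Coh.structureModule (LefPen.hypIdeal F).subscheme) 1) := by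
  let _ : (LefPen.hypIdeal F).subscheme.Over (Spec (CommRingCat.of k)) :=
    ⟨(LefPen.hypIdeal F).subschemeι ≫ CohB1.ProjSpace.toSpec n k⟩
  have h := (K568.TanHyp.main k n F hF hn hd).2 hnd
  obtain ⟨t⟩ := nonempty_iso k n (LefPen.hypIdeal F).subschemeι
  have h2 := Fga.HShift.subsingleton_of_iso t 1 h
  exact (K903.ExtVB.extVB k (PerfB.FlatPull.isFinLocFree_pullback _
    (Krr.H463.DualLam.isFinLocFree_of_rank (rank_omega n k))) _ 1).toEquiv.subsingleton_congr.2 h2

end K568.TanExt
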