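import Groth.Agent.LefPen.K568.PnTan
import Groth.Agent.LefPen.K568.HypIdMod
import Groth.Agent.Krr.H458.DivSeq
import Groth.Agent.Fga.HShift
import Groth.Agent.CurvesC.CurveNum
import Groth.Agent.S0002

/-!
# Cohomology of the restriction of the tangent sheaf of `P^n` to a hypersurface
-/

set_option autoImplicit false
universe u

open CategoryTheory CategoryTheory.Limits AlgebraicGeometry
open Groth.Agent Groth.Agent.Sga67.TwistProj K54.HodgePn K482.TensCalc
open Groth.Agent.CohqB.HomSheaf (homSheaf)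

namespace K568.TanHyp

variable (k : Type u) [Field k] (n : ℕ)

/-- Vanishing of the cohomology of a coherent sheaf is seen on the dimension. -/
theorem subsingleton_iff {L : (CohB1.ProjSpace n k).Modules} (hL : Coh.IsCoh L) (q : ℕ) :
    Subsingleton (Coh.HH (CohB1.ProjSpace n k) L q) ↔
      Module.finrank k (Coh.HH (CohB1.ProjSpace n k) L q) = 0 := by
  have := S0002.result k (CohB1.ProjSpace n k) L hL q
  exact Module.finrank_zero_iff.symm

/-- The tangent sheaf. -/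
noncomputable abbrev T : (CohB1.ProjSpace n k).Modules :=
  homSheaf (Omega.sheaf (CohB1.ProjSpace.toSpec n k)) (Coh.structureModule (CohB1.ProjSpace n k))

theorem isFinLocFree_T : FlatMod.IsFinLocFree (T k n) :=
  Krr.H463.DualLam.isFinLocFree_of_rank (Krr.H463.DualLam.isFinLocFreeOfRank_homSheaf (rank_omega n k))

theorem isFinLocFree_Tw (e : ℤ) : FlatMod.IsFinLocFree (CohB1.tensorMod (T k n) (Twist.twistProjSpace n k e)) :=
  Dcoh.FinLocFree.isFinLocFree_of_iso (K271.Bott.swapIso k n (T k n) e).symm (isFinLocFree_tA e (isFinLocFree_T k n))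

/-- The dimensions of `H^q(P^{n+1}, T(e))`. -/
theorem finrank_Tw (e : ℤ) {q : ℕ} (hq : q ≤ n + 1) :
    Module.finrank k (Coh.HH (CohB1.ProjSpace (n + 1) k)
      (CohB1.tensorMod (T k (n + 1)) (Twist.twistProjSpace (n + 1) k e)) q) =
      if 0 < (n : ℤ) + 2 + e then
        (if q = 0 then Nat.choose (((n : ℤ) + 2 + e).toNat + (n + 1) - n) ((n : ℤ) + 2 + e).toNat *
          Nat.choose (((n : ℤ) + 2 + e).toNat - 1) n else 0)
      else if (n : ℤ) + 2 + e < 0 then
        (if q = n + 1 then Nat.choose ((-((n : ℤ) + 2 + e)).toNat + n) (-((n : ℤ) + 2 + e)).toNat *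
          Nat.choose ((-((n : ℤ) + 2 + e)).toNat - 1) ((n + 1) - n) else 0)
      else if q = n then 1 else 0 := by
  obtain ⟨L, hL⟩ := exists_extPow_omega (n + 1) k n
  obtain ⟨a⟩ := PnTan.nonempty_tangent k n hL e
  rw [K271.Bott.finrank_congr k (n + 1) a, K271.Bott.finrank_eq k (n + 1) (by omega) hq hL]

theorem subsingleton_Tw_iff (e : ℤ) (q : ℕ) :
    Subsingleton (Coh.HH (CohB1.ProjSpace n k)
      (CohB1.tensorMod (T k n) (Twist.twistProjSpace n k e)) q) ↔
    Module.finrank k (Coh.HH (CohB1.ProjSpace n k)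
      (CohB1.tensorMod (T k n) (Twist.twistProjSpace n k e)) q) = 0 :=
  subsingleton_iff k n (PerfA.CohSerre.isCoh_of_isFinLocFree (isFinLocFree_Tw k n e)) q

theorem subsingleton_T (q : ℕ) (h1 : 1 ≤ q) (hq : q ≤ n) : Subsingleton (Coh.HH (CohB1.ProjSpace n k) (T k n) q) := by
  obtain ⟨n, rfl⟩ : ∃ n', n = n' + 1 := ⟨n - 1, by omega⟩
  have h2 : Subsingleton (Coh.HH (CohB1.ProjSpace (n + 1) k)
      (CohB1.tensorMod (T k (n + 1)) (Twist.twistProjSpace (n + 1) k 0)) q) := by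
    rw [subsingleton_Tw_iff, finrank_Tw k n 0 hq, if_pos (by omega), if_neg (by omega)]
  obtain ⟨e⟩ := nonempty_tA_zero (n + 1) k (T k (n + 1))
  exact Fga.HShift.subsingleton_of_iso (K271.Bott.swapIso k (n + 1) (T k (n + 1)) 0 ≪≫ e) q h2

variable {d : ℕ} (F : LefPen.Form n k d) (hF : F ≠ 0)

include hF in
/-- `0 → T(-d) → T → i_* i^* T → 0`. -/
theorem exists_shortExact (E : (CohB1.ProjSpace n k).Modules) (hE : FlatMod.IsFinLocFree E) :
    ∃ S : ShortComplex (CohB1.ProjSpace n k).Modules, S.ShortExact ∧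
      Nonempty (S.X₁ ≅ CohB1.tensorMod E (Twist.twistProjSpace n k (-(d : ℤ)))) ∧ Nonempty (S.X₂ ≅ E) ∧
      Nonempty (S.X₃ ≅ (Scheme.Modules.pushforward (LefPen.hypIdeal F).subschemeι).obj
        ((Scheme.Modules.pullback (LefPen.hypIdeal F).subschemeι).obj E)) := by
  obtain ⟨M, f, g, h, hS, e⟩ := Krr.H458.DivSeq.exists_shortExact (LefPen.hypIdeal F).subschemeι hE
  refine ⟨_, hS, ?_, ⟨Iso.refl _⟩, e⟩
  change Nonempty (CohB1.tensorMod E (ClSub.idealMod (LefPen.hypIdeal F).subschemeι.ker) ≅ _)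
  rw [Scheme.IdealSheafData.ker_subschemeι]
  exact congr (refl _) (HypIdMod.nonempty_iso F hF)

/-- `H^q(P, i_* M) = H^q(Z, M)`. -/
theorem subsingleton_push_iff {X Z : Scheme.{u}} (i : Z ⟶ X) [IsClosedImmersion i] (M : Z.Modules) (q : ℕ) :
    Subsingleton (Coh.HH X ((Scheme.Modules.pushforward i).obj M) q) ↔ Subsingleton (Coh.HH Z M q) :=
  (CurvesC.CurveNum.hhPush i M q).toEquiv.symm.subsingleton_congr

include hF in
/-- `H^q(Z, i^* T) = 0` iff `H^{q+1}(P^n, T(-d)) = 0`, `1 ≤ q < n`. -/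
theorem subsingleton_restrict_iff (q : ℕ) (h1 : 1 ≤ q) (hq : q + 1 ≤ n) :
    Subsingleton (Coh.HH (LefPen.hypIdeal F).subscheme
      ((Scheme.Modules.pullback (LefPen.hypIdeal F).subschemeι).obj (T k n)) q) ↔
    Subsingleton (Coh.HH (CohB1.ProjSpace n k)
      (CohB1.tensorMod (T k n) (Twist.twistProjSpace n k (-(d : ℤ)))) (q + 1)) := by
  obtain ⟨S, hS, ⟨e1⟩, ⟨e2⟩, ⟨e3⟩⟩ := exists_shortExact k n F hF (T k n) (isFinLocFree_T k n)
  have hT1 : Subsingleton (Coh.HH (CohB1.ProjSpace n k) S.X₂ q) :=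
    Fga.HShift.subsingleton_of_iso e2.symm q (subsingleton_T k n q h1 (by omega))
  have hT2 : Subsingleton (Coh.HH (CohB1.ProjSpace n k) S.X₂ (q + 1)) :=
    Fga.HShift.subsingleton_of_iso e2.symm (q + 1) (subsingleton_T k n (q + 1) (by omega) hq)
  rw [← subsingleton_push_iff (LefPen.hypIdeal F).subschemeι]
  constructor
  · intro h
    have h3 : Subsingleton (Coh.HH (CohB1.ProjSpace n k) S.X₃ q) := Fga.HShift.subsingleton_of_iso e3.symm q h
    exact Fga.HShift.subsingleton_of_iso e1 (q + 1) (Fga.HShift.subsingleton₁ hS q h3 hT2)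
  · intro h
    have h3 : Subsingleton (Coh.HH (CohB1.ProjSpace n k) S.X₁ (q + 1)) :=
      Fga.HShift.subsingleton_of_iso e1.symm (q + 1) h
    exact Fga.HShift.subsingleton_of_iso e3 q (Fga.HShift.subsingleton₃ hS q hT1 h3)

include hF in
theorem main (hn : 2 ≤ n) (hd : 1 ≤ d) :
    Subsingleton (Coh.HH (LefPen.hypIdeal F).subscheme
      ((Scheme.Modules.pullback (LefPen.hypIdeal F).subschemeι).obj (T k n)) 1) ↔
      ¬ ((n = 2 ∧ 5 ≤ d) ∨ (n = 3 ∧ d = 4)) := by
  rw [subsingleton_restrict_iff k n F hF 1 le_rfl hn, subsingleton_Tw_iff]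
  obtain ⟨n, rfl⟩ : ∃ n', n = n' + 1 := ⟨n - 1, by omega⟩
  rw [finrank_Tw k n _ hn]
  rcases lt_trichotomy ((n : ℤ) + 2 + -(d : ℤ)) 0 with h | h | h
  · rw [if_neg (by omega), if_pos h]
    by_cases h2 : 1 + 1 = n + 1
    · obtain rfl : n = 1 := by omega
      rw [if_pos rfl]
      obtain ⟨a, rfl⟩ : ∃ a, d = a + 4 := ⟨d - 4, by omega⟩
      have h3 : (-(((1 : ℕ) : ℤ) + 2 + -((a + 4 : ℕ) : ℤ))).toNat = a + 1 := by push_cast; omega
      rw [h3, Nat.add_sub_cancel, Nat.add_sub_cancel_left, Nat.choose_one_right, Nat.mul_eq_zero]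
      have h4 := Nat.choose_pos (show a + 1 ≤ a + 1 + 1 by omega)
      omega
    · rw [if_neg h2]
      omega
  · rw [if_neg (by omega), if_neg (by omega)]
    by_cases h2 : 1 + 1 = n
    · rw [if_pos h2]
      omega
    · rw [if_neg h2]
      omega
  · rw [if_pos h, if_neg (by omega)]
    omega

end K568.TanHyp
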