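import Groth.Agent.LefPen.K568.TanHyp
import Groth.Agent.HodgeNum.K882.Conormal
import Groth.Agent.TautSh.K994.PullHom
import Groth.Agent.CurvSt.K903.ExtVB
import Groth.Agent.CurvSt.K903.HomIso
import Groth.Agent.CurvSt.K903.ExtTwist
import Groth.Agent.Krr.H496.ExcCoord
import Groth.Agent.ASBun.K791.Tens
import Groth.Agent.S0844
import Groth.Agent.Vancyc.H878.OmegaRank

/-!
# `H^2(Z, T_Z)` for a smooth surface `Z` of degree `≥ 6` in `P^3`
-/

set_option autoImplicit false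
universe u

open CategoryTheory CategoryTheory.Limits AlgebraicGeometry CategoryTheory.Abelian
open Groth.Agent Groth.Agent.Sga67.TwistProj K54.HodgePn K482.TensCalc
open Groth.Agent.CohqB.HomSheaf (homSheaf)

namespace K568.TanSurf

open K568.TanHyp

/-- The middle term of an exact sequence of `Ext` groups in the first variable. -/
theorem subsingleton_ext_mid {C : Type*} [Category* C] [Abelian C] [HasExt C] {S : ShortComplex C}
    (hS : S.ShortExact) (G : C) (q : ℕ) (h1 : Subsingleton (Ext S.X₁ G q)) (h3 : Subsingleton (Ext S.X₃ G q)) :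
    Subsingleton (Ext S.X₂ G q) := by
  refine subsingleton_of_forall_eq 0 fun x => ?_
  obtain ⟨y, hy⟩ := Ext.contravariant_sequence_exact₂ hS _ x (h1.elim _ _)
  rw [← hy, h3.elim y 0, Ext.comp_zero]

/-- `Ext^q(E, O) = 0` iff `H^q(Hom(E, O)) = 0` for `E` finite locally free. -/
theorem subsingleton_ext_iff (k : Type u) [CommRing k] {X : Scheme.{u}} [X.Over (Spec (CommRingCat.of k))] [HasExt X.Modules]
    {E : X.Modules} (hE : FlatMod.IsFinLocFree E) (G : X.Modules) (q : ℕ) :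
    Subsingleton (Ext E G q) ↔ Subsingleton (Coh.HH X (homSheaf E G) q) :=
  (K903.ExtVB.extVB k hE G q).toEquiv.subsingleton_congr

variable (k : Type u) [Field k] (n : ℕ) {d : ℕ} (F : LefPen.Form n k d) (hF : F ≠ 0)

theorem isFinLocFree_tw (m : ℤ) : FlatMod.IsFinLocFree (Twist.twistProjSpace n k m) :=
  Ega2.QCohLocal.isFinLocFree_of_rank
    (Ega2.QCohLocal.isFinLocFreeOfRank_one_iff.mpr (Ega3B.ProjFrame.isInvertible_twistProjSpace n k m))

include hF in
/-- The conormal module of a hypersurface. -/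
theorem nonempty_conormal_hyp : Nonempty (Omega.conormal (LefPen.hypIdeal F).subschemeι ≅
    (Scheme.Modules.pullback (LefPen.hypIdeal F).subschemeι).obj (Twist.twistProjSpace n k (-(d : ℤ)))) := by
  obtain ⟨e'⟩ := HypIdMod.nonempty_iso F hF
  have h : (LefPen.hypIdeal F).subschemeι.ker = LefPen.hypIdeal F := Scheme.IdealSheafData.ker_subschemeι _
  exact ⟨(Scheme.Modules.pullback _).mapIso (eqToIso (by rw [h]) ≪≫ e')⟩

/-- The dual of the pull-back of `O(-m)` is the pull-back of `O(m)`. -/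
theorem nonempty_dual_twist {Z : Scheme.{u}} (i : Z ⟶ CohB1.ProjSpace n k) (m : ℤ) :
    Nonempty (homSheaf ((Scheme.Modules.pullback i).obj (Twist.twistProjSpace n k (-m))) (Coh.structureModule Z) ≅
      (Scheme.Modules.pullback i).obj (Twist.twistProjSpace n k m)) := by
  obtain ⟨e⟩ := Sga67.TwistProj.nonempty_mul n k (-m) m
  obtain ⟨e0⟩ := Groth.Agent.ASBun.K791.Tens.twistProj_zero n k
  rw [neg_add_cancel] at e
  exact K903.ExtTwist.nonempty_iso_inverse ((Groth.Agent.ASBun.K791.Tens.pullTens i _ _).symm ≪≫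
    (Scheme.Modules.pullback i).mapIso (e ≪≫ e0) ≪≫ Groth.Agent.ASBun.K791.Tens.pullUnit i)

include hF in
/-- `H^q(Z, O_Z(d)) = 0` for `1 ≤ q`, `q + 1 ≤ n`. -/
theorem subsingleton_OZ (q : ℕ) (h1 : 1 ≤ q) (hq : q + 1 ≤ n) :
    Subsingleton (Coh.HH (LefPen.hypIdeal F).subscheme
      ((Scheme.Modules.pullback (LefPen.hypIdeal F).subschemeι).obj (Twist.twistProjSpace n k (d : ℤ))) q) := by
  obtain ⟨S, hS, ⟨e1⟩, ⟨e2⟩, ⟨e3⟩⟩ := exists_shortExact k n F hF (Twist.twistProjSpace n k (d : ℤ))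
    (isFinLocFree_tw k n d)
  obtain ⟨e⟩ := Sga67.TwistProj.nonempty_mul n k (d : ℤ) (-(d : ℤ))
  rw [add_neg_cancel] at e
  rw [← subsingleton_push_iff (LefPen.hypIdeal F).subschemeι]
  exact Fga.HShift.subsingleton_of_iso e3 q (Fga.HShift.subsingleton₃ hS q
    (Fga.HShift.subsingleton_of_iso e2.symm q (S0844.result k n d q (by omega) (by omega)))
    (Fga.HShift.subsingleton_of_iso (e1 ≪≫ e).symm (q + 1) (S0844.result k n 0 (q + 1) (by omega) (by omega))))

end K568.TanSurf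

namespace K568.TanSurf

open K568.TanHyp

variable (k : Type u) [Field k] {d : ℕ} (F : LefPen.Form 3 k d) (hF : F ≠ 0)

include hF in
/-- `H^2(Z, i^* T) ≠ 0` for a surface of degree `d ≥ 6`. -/
theorem not_subsingleton (hd : 6 ≤ d) : ¬ Subsingleton (Coh.HH (LefPen.hypIdeal F).subscheme
    ((Scheme.Modules.pullback (LefPen.hypIdeal F).subschemeι).obj (T k 3)) 2) := by
  intro h
  obtain ⟨S, hS, ⟨e1⟩, ⟨e2⟩, ⟨e3⟩⟩ := exists_shortExact k 3 F hF (T k 3) (isFinLocFree_T k 3)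
  rw [← subsingleton_push_iff (LefPen.hypIdeal F).subschemeι] at h
  have h2 : Subsingleton (Coh.HH (CohB1.ProjSpace 3 k) S.X₁ (2 + 1)) := Fga.HShift.subsingleton₁ hS 2
    (Fga.HShift.subsingleton_of_iso e3.symm 2 h)
    (Fga.HShift.subsingleton_of_iso e2.symm 3 (subsingleton_T k 3 3 (by omega) (by omega)))
  have h3 := (subsingleton_Tw_iff k 3 (-(d : ℤ)) 3).1 (Fga.HShift.subsingleton_of_iso e1 3 h2)
  rw [finrank_Tw k 2 _ le_rfl, if_neg (by omega), if_pos (by omega), if_pos rfl] at h3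
  obtain ⟨a, rfl⟩ : ∃ a, d = a + 6 := ⟨d - 6, by omega⟩
  have h4 : (-(((2 : ℕ) : ℤ) + 2 + -((a + 6 : ℕ) : ℤ))).toNat = a + 2 := by push_cast; omega
  rw [h4, Nat.mul_eq_zero] at h3
  have h5 := Nat.choose_pos (show a + 2 ≤ a + 2 + 2 by omega)
  have h6 := Nat.choose_pos (show 2 + 1 - 2 ≤ a + 2 - 1 by omega)
  omega

include hF in
theorem main (hd : 6 ≤ d)
    [Smooth ((LefPen.hypIdeal F).subschemeι ≫ CohB1.ProjSpace.toSpec 3 k)] :
    Nontrivial (Coh.HH (LefPen.hypIdeal F).subscheme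
      (homSheaf (Omega.sheaf ((LefPen.hypIdeal F).subschemeι ≫ CohB1.ProjSpace.toSpec 3 k))
        (Coh.structureModule (LefPen.hypIdeal F).subscheme)) 2) := by
  let _ := HasExt.standard (LefPen.hypIdeal F).subscheme.Modules
  let ι := (LefPen.hypIdeal F).subschemeι
  let _ : (LefPen.hypIdeal F).subscheme.Over (Spec (CommRingCat.of k)) := ⟨ι ≫ CohB1.ProjSpace.toSpec 3 k⟩
  rw [← not_subsingleton_iff_nontrivial]
  intro h
  apply not_subsingleton k F hF hd
  obtain ⟨S, hS, ⟨e1⟩, ⟨e2⟩, ⟨e3⟩⟩ := K882.Conormal.exists_shortExact ι (CohB1.ProjSpace.toSpec 3 k)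
  obtain ⟨c⟩ := nonempty_conormal_hyp k 3 F hF
  obtain ⟨c'⟩ := nonempty_dual_twist k 3 ι (d : ℤ)
  have hO : Subsingleton (Ext S.X₁ (Coh.structureModule _) 2) := by
    rw [subsingleton_ext_iff k (Dcoh.FinLocFree.isFinLocFree_of_iso (e1 ≪≫ c).symm
      (PerfB.FlatPull.isFinLocFree_pullback ι (isFinLocFree_tw k 3 _)))]
    exact Fga.HShift.subsingleton_of_iso ((K903.HomIso.homPreIso (e1 ≪≫ c) _).symm ≪≫ c').symm 2
      (subsingleton_OZ k 3 F hF 2 (by omega) (by omega))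
  have hΩ : FlatMod.IsFinLocFree (Omega.sheaf (CohB1.ProjSpace.toSpec 3 k)) :=
    Krr.H463.DualLam.isFinLocFree_of_rank (rank_omega 3 k)
  have hT : Subsingleton (Ext S.X₂ (Coh.structureModule _) 2) := by
    refine subsingleton_ext_mid hS _ 2 hO ?_
    have hZ : FlatMod.IsFinLocFree (Omega.sheaf (ι ≫ CohB1.ProjSpace.toSpec 3 k)) :=
      Vancyc.H878.OmegaRank.isFinLocFree_omega _
    rw [subsingleton_ext_iff k (Dcoh.FinLocFree.isFinLocFree_of_iso e3.symm hZ)]
    exact Fga.HShift.subsingleton_of_iso (K903.HomIso.homPreIso e3 _) 2 h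
  rw [subsingleton_ext_iff k (Dcoh.FinLocFree.isFinLocFree_of_iso e2.symm
    (PerfB.FlatPull.isFinLocFree_pullback ι hΩ))] at hT
  obtain ⟨t⟩ := K994.PullHom.nonempty_iso (g := ι) hΩ (N := Coh.structureModule (CohB1.ProjSpace 3 k))
    (Ega2.QCohLocal.isFinLocFreeOfRank_one_iff.mpr Fdesc.LocGen.isInvertible_structureModule)
  obtain ⟨t'⟩ : Nonempty (homSheaf ((Scheme.Modules.pullback ι).obj (Omega.sheaf (CohB1.ProjSpace.toSpec 3 k)))
      ((Scheme.Modules.pullback ι).obj (Coh.structureModule (CohB1.ProjSpace 3 k))) ≅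
      homSheaf ((Scheme.Modules.pullback ι).obj (Omega.sheaf (CohB1.ProjSpace.toSpec 3 k)))
      (Coh.structureModule (LefPen.hypIdeal F).subscheme)) :=
    ⟨(Groth.Agent.Dcoh.MonClosed.homFunctor _).mapIso (Groth.Agent.ASBun.K791.Tens.pullUnit ι)⟩
  exact Fga.HShift.subsingleton_of_iso ((K903.HomIso.homPreIso e2 _).symm ≪≫ t'.symm ≪≫ t.symm) 2 hT

end K568.TanSurf
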