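import Groth.Agent.LefPen.K568.TwSys
import Groth.Agent.Lefpen.H121.CurveForm

/-!
# The twisting sheaves on projective space and on complete intersections, in Čech systems
-/

set_option autoImplicit false
universe u
open CategoryTheory CategoryTheory.Limits AlgebraicGeometry Opposite TopologicalSpace

namespace K568.TwGeo

open K568.TwSys LefPen MvPolynomial
open Groth.Agent.CohqA.LaurentCech Groth.Agent.CohqA.LaurentLoc
open Groth.Agent.Lefpen.H722.Sys Groth.Agent.Lefpen.H722.Ring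
open Groth.Agent.Lefpen.H278.RingIso Groth.Agent.Lefpen.H278.SecSys Groth.Agent.Lefpen.H278.SecRing
open Groth.Agent.Lefpen.H278.LaurSec
open Groth.Agent.Lefpen.H721.OmegaSec Groth.Agent.Lefpen.H718.Chart Groth.Agent.Fdesc.LocGen
open Groth.Agent.Lefpen.H705.HypIdeal Groth.Agent.Lefpen.H705.ChartPoly Groth.Agent.CurvesB.OmegaStalkDict

section Rel

theorem zpow_rel {A : Type*} [CommGroup A] (a b : A) (m : ℤ) :
    (b ^ (1 : ℤ) * a ^ (-1 : ℤ)) ^ m.toNat * (a ^ m * b ^ (-m)) = (b ^ (1 : ℤ) * a ^ (-1 : ℤ)) ^ (-m).toNat := by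
  have h1 : ((-m).toNat : ℤ) = (m.toNat : ℤ) - m := by omega
  have h2 : a ^ m * b ^ (-m) = (b ^ (1 : ℤ) * a ^ (-1 : ℤ)) ^ (-m) := by
    rw [mul_zpow, ← zpow_mul, ← zpow_mul, mul_comm]
    congr 1 <;> congr 1 <;> ring
  rw [h2, ← zpow_natCast, ← zpow_natCast, ← zpow_add, h1, sub_eq_add_neg]

variable {k : Type u} [Field k] {ι : Type} [Fintype ι] {d : ℕ} {G : Fin d → MvPolynomial ι k}

theorem ratT_rel {I : Set ι} {i j : ι} (hi : i ∈ I) (hj : j ∈ I) (m : ℤ) :
    ratT G hj hi 1 ^ m.toNat * ratT G hi hj m = ratT G hj hi 1 ^ (-m).toNat := by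
  apply Subtype.ext
  have h1 := congrArg (Units.val (α := F G I)) (zpow_rel (uT G hi) (uT G hj) m)
  rw [Units.val_mul, Units.val_pow_eq_pow_val, Units.val_pow_eq_pow_val] at h1
  exact h1

theorem ratT_inv {I : Set ι} {i j : ι} (hi : i ∈ I) (hj : j ∈ I) :
    ratT G hi hj 1 * ratT G hj hi 1 = 1 := by
  apply Subtype.ext
  change (((uT G hi) ^ (1 : ℤ) * (uT G hj) ^ (-1 : ℤ) : (F G I)ˣ) : F G I) *
    (((uT G hj) ^ (1 : ℤ) * (uT G hi) ^ (-1 : ℤ) : (F G I)ˣ) : F G I) = 1
  rw [← Units.val_mul, ← Units.val_one (α := F G I)]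
  congr 1
  rw [zpow_one, zpow_one, zpow_neg_one, zpow_neg_one]
  group

variable {X : Scheme.{u}} {f : X ⟶ Spec (CommRingCat.of k)} {U : ι → X.Opens} (D : CData G f U)

theorem CData_fn_one {I : Set ι} (hI : I.Nonempty) : D.fn hI 1 = 1 := map_one (D.e hI)

theorem CData_fn_pow {I : Set ι} (hI : I.Nonempty) (b : F0 G I) (n : ℕ) : D.fn hI (b ^ n) = D.fn hI b ^ n :=
  map_pow (D.e hI) b n

/-- The relation between generators, from the transition functions. -/
theorem rel_of {L : X.Modules} {m : ℤ} (g : ∀ i, Γ(L, U i)) (q : ∀ i (_ : ι), Γ(X, U i))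
    (hq : ∀ {I : Set ι} (hI : I.Nonempty) {i j : ι} (hi : i ∈ I) (hj : j ∈ I),
      ores (UI_le U hi) (q i j) = D.fn hI (ratT G hj hi 1))
    (hrel : ∀ i j, ores (inf_le_left : U i ⊓ U j ≤ _) (q i j) ^ m.toNat •
          res _ (inf_le_left : U i ⊓ U j ≤ _) (g i) =
        ores (inf_le_left : U i ⊓ U j ≤ _) (q i j) ^ (-m).toNat •
          res _ (inf_le_right : U i ⊓ U j ≤ _) (g j))
    {I : Set ι} (hI : I.Nonempty) {i j : ι} (hi : i ∈ I) (hj : j ∈ I) :
    res L (UI_le U hi) (g i) = D.fn hI (ratT G hi hj m) • res L (UI_le U hj) (g j) := by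
  have hle : UI U I ≤ U i ⊓ U j := le_inf (UI_le U hi) (UI_le U hj)
  have h1 := congrArg (res L hle) (hrel i j)
  rw [res_smul, res_smul, res_res, res_res, map_pow, map_pow, ores_ores, hq hI hi hj, ← CData_fn_pow, ← CData_fn_pow,
    ← ratT_rel hi hj m, D.fn_mul, mul_smul] at h1
  have h2 : D.fn hI (ratT G hi hj 1 ^ m.toNat) * D.fn hI (ratT G hj hi 1 ^ m.toNat) = 1 := by
    rw [← D.fn_mul, ← mul_pow, ratT_inv, one_pow, CData_fn_one]
  have h3 := congrArg (fun z => D.fn hI (ratT G hi hj 1 ^ m.toNat) • z) h1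
  rw [smul_smul, smul_smul, h2, one_smul, one_smul] at h3
  exact h3

end Rel

section CI

variable {N d : ℕ} {k : Type u} [Field k] {a : Fin d → ℕ} (G : ∀ j : Fin d, Form N k (a j))

/-- The data for a complete intersection. -/
noncomputable def ciData : CData (Gp G) (yStr G) (ychart G) where
  cov := iSup_ychart G
  aff := isAffineOpen_biInf_ychart G
  e hI := e0 G hI
  res hI h x := resA_e0 G hI h x

/-- The element `T_j T_i^{-1}` as a Laurent polynomial of degree zero. -/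
noncomputable def ratL {I : Set (Fin (N + 1))} {i : Fin (N + 1)} (hi : i ∈ I) (j : Fin (N + 1)) : L0 N k I :=
  ⟨(ofP I (X j : MvPolynomial (Fin (N + 1)) k) * invX hi).1, by
    have h1 : ofP I (X j : MvPolynomial (Fin (N + 1)) k) ∈ grA k I 1 := by
      have := ofP_mem (I := I) (isHomogeneous_X k j)
      exact_mod_cast this
    have h2 := mul_mem_grA h1 (invX_mem (k := k) hi)
    rw [add_neg_cancel] at h2
    exact h2⟩

theorem evI_ores_dehom' {I : Set (Fin (N + 1))} (hI : I.Nonempty) {j : Fin (N + 1)} (hj : j ∈ I) {D : ℕ}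
    (H : Form N k D) : (evI I hI (ores (UI_chart_le hj) (LefPen.dehom H j))).1 =
      toLaurent H.1 * AddMonoidAlgebra.single (pw j (-(D : ℤ))) 1 :=
  evI_ores_dehom (a := fun _ : Fin 1 => D) (fun _ : Fin 1 => H) hI hj 0

theorem evI_ratio {I : Set (Fin (N + 1))} (hI : I.Nonempty) {i : Fin (N + 1)} (hi : i ∈ I) (j : Fin (N + 1)) :
    evI I hI (ores (UI_chart_le hi) (ratio (r := N) (k := k) i j)) = ratL hi j := by
  apply Subtype.ext
  rw [ratio]
  refine (evI_ores_dehom' hI hi (⟨X j, X_mem N k j⟩ : Form N k 1)).trans ?_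
  change _ = toLaurent (X j) * AddMonoidAlgebra.single (-castExp (Finsupp.single i 1)) 1
  congr 2
  have h1 := castExp_single i 1
  rw [one_smul] at h1
  rw [h1, pw, pw, Pi.single_neg]

theorem toF0_ratL {I : Set (Fin (N + 1))} {i j : Fin (N + 1)} (hi : i ∈ I) (hj : j ∈ I) :
    toF0 G I (ratL hi j) = ratT (Gp G) hj hi 1 := by
  apply Subtype.ext
  rw [toF0_val]
  change mk (Gp G) I (ofP I (X j) * invX hi) = (((uT (Gp G) hj) ^ (1 : ℤ) * (uT (Gp G) hi) ^ (-1 : ℤ) :
    (F (Gp G) I)ˣ) : F (Gp G) I)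
  rw [zpow_one, zpow_neg_one, Units.val_mul, map_mul]
  rfl

/-- The transition functions of `O_Y(1)`. -/
theorem ores_fn_ratio {I : Set (Fin (N + 1))} (hI : I.Nonempty) {i j : Fin (N + 1)} (hi : i ∈ I) (hj : j ∈ I) :
    ores (UI_le (ychart G) hi) (Groth.Agent.Lefpen.H121.ChartLift.fn G i (X j)) =
      (ciData G).fn hI (ratT (Gp G) hj hi 1) := by
  have h1 : (ciData G).fn hI (ratT (Gp G) hj hi 1) = toYI G I ((evI I hI).symm (ratL hi j)) := by
    rw [← toF0_ratL]
    exact e0_toF0 G hI (ratL hi j)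
  rw [h1, ← evI_ratio hI hi j, RingEquiv.symm_apply_apply]
  have h2 : Groth.Agent.Lefpen.H121.ChartLift.fn G i (X j) = ((yι G).app (chart N k i)).hom (ratio (r := N) (k := k) i j) :=
    Groth.Agent.Lefpen.H121.ChartLift.fn_eq G i (⟨X j, X_mem N k j⟩ : Form N k 1)
  rw [h2, toYI]
  have h3 : (yι G).app (chart N k i) ≫ (Y G).presheaf.map (homOfLE (UI_le (ychart G) hi)).op =
      (CohB1.ProjSpace N k).presheaf.map (homOfLE (UI_chart_le hi)).op ≫
        (yι G).appLE (UI (chart N k) I) (UI (ychart G) I) (UI_ychart G I).le := by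
    rw [Scheme.Hom.map_appLE, Scheme.Hom.app_eq_appLE, Scheme.Hom.appLE_map]
  exact congr($(h3).hom (ratio (r := N) (k := k) i j))

/-- `O_Y(m)`. -/
theorem nonempty_ciTw (m : ℤ) :
    Nonempty (Tw (ciData G) ((Scheme.Modules.pullback (yι G)).obj (Twist.twistProjSpace N k m)) m) := by
  obtain ⟨g, hg, hrel⟩ := Groth.Agent.Lefpen.H121.CurveForm.exists_gens_pullback G m
  refine ⟨{ inv := ?_, g := g, gen := hg, rel := ?_ }⟩
  · rw [Groth.Agent.Fdesc.LocGen.isInvertible_iff]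
    intro x
    have hx : x ∈ ⨆ j : Fin (N + 1), ychart G j := by rw [iSup_ychart]; trivial
    obtain ⟨j, hj⟩ := Opens.mem_iSup.1 hx
    exact ⟨_, g j, hj, hg j⟩
  · intro I hI i j hi hj
    exact rel_of (ciData G) g (fun i j => Groth.Agent.Lefpen.H121.ChartLift.fn G i (X j))
      (fun hI _ _ hi hj => ores_fn_ratio G hI hi hj) hrel hI hi hj

end CI

section P

variable (N : ℕ) (k : Type u) [Field k]

/-- No degrees. -/
def a0 : Fin 0 → ℕ := fun j => j.elim0

/-- No equations. -/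
def G0 : ∀ j : Fin 0, Form N k (a0 j) := fun j => j.elim0

variable {N k}

theorem toF0_injective {I : Set (Fin (N + 1))} (hI : I.Nonempty) : Function.Injective (toF0 (G0 N k) I) := by
  rw [injective_iff_map_eq_zero]
  intro x hx
  have h1 : x ∈ RingHom.ker (toF0 (G0 N k) I) := hx
  rw [ker_toF0 (G0 N k) hI, RingHom.mem_ker, toSec_eq_zero_iff] at h1
  obtain ⟨_, _, h2⟩ := h1
  rw [Finset.univ_eq_empty, Finset.sum_empty] at h2
  exact Subtype.ext h2

/-- Functions on `D_+(T_I)`. -/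
noncomputable def evA {I : Set (Fin (N + 1))} (hI : I.Nonempty) :
    L0 N k I ≃ₐ[k] SA (CohB1.ProjSpace.toSpec N k) (UI (chart N k) I) :=
  AlgEquiv.ofRingEquiv (f := ((evI I hI).symm : L0 N k I ≃+* Γ(CohB1.ProjSpace N k, UI (chart N k) I))) (fun c => by
    have h1 : (evI I hI).symm (algebraMap k (L0 N k I) c) =
        secHom (CohB1.ProjSpace.toSpec N k) (UI (chart N k) I) c := by
      rw [RingEquiv.symm_apply_eq]
      apply Subtype.ext
      rw [evI_apply, evS_secHom]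
      rfl
    exact h1)

theorem evA_apply {I : Set (Fin (N + 1))} (hI : I.Nonempty) (x : L0 N k I) :
    evA hI x = (evI I hI).symm x := rfl

/-- Functions on `D_+(T_I)`, from the model. -/
noncomputable def pe {I : Set (Fin (N + 1))} (hI : I.Nonempty) :
    F0 (Gp (G0 N k)) I ≃ₐ[k] SA (CohB1.ProjSpace.toSpec N k) (UI (chart N k) I) :=
  (AlgEquiv.ofBijective (toF0 (G0 N k) I) ⟨toF0_injective hI, toF0_surjective (G0 N k) I⟩).symm.trans (evA hI)

theorem pe_toF0 {I : Set (Fin (N + 1))} (hI : I.Nonempty) (x : L0 N k I) :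
    pe hI (toF0 (G0 N k) I x) = (evI I hI).symm x := by
  have h1 : (AlgEquiv.ofBijective (toF0 (G0 N k) I) ⟨toF0_injective hI, toF0_surjective (G0 N k) I⟩).symm
      (toF0 (G0 N k) I x) = x := by
    rw [AlgEquiv.symm_apply_eq]
    rfl
  exact (congrArg (evA hI) h1).trans (evA_apply hI x)

variable (N k)

theorem iSup_chart' : ⨆ j : Fin (N + 1), chart N k j = ⊤ := by
  have h := Groth.Agent.Lefpen.H708.Geo.iSup_preimage_chart (𝟙 (CohB1.ProjSpace N k))
  exact h

/-- The data for projective space. -/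
noncomputable def pData : CData (Gp (G0 N k)) (CohB1.ProjSpace.toSpec N k) (chart N k) where
  cov := iSup_chart' N k
  aff s hs := by
    obtain ⟨i, hi⟩ := hs
    have h := isAffineOpen_UI_chart (N := N) (k := k) (I := (s : Set (Fin (N + 1)))) ⟨i, hi⟩
    exact h
  e hI := pe hI
  res {I J} hI h x := by
    obtain ⟨x, rfl⟩ := toF0_surjective (G0 N k) I x
    have h1 : ρ0 (Gp (G0 N k)) h (toF0 (G0 N k) I x) = toF0 (G0 N k) J (Subalgebra.inclusion (L0_mono h) x) := rfl
    rw [h1, pe_toF0, pe_toF0]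
    exact ores_evI_symm hI h x

variable {N k}

theorem ores_ratio {I : Set (Fin (N + 1))} (hI : I.Nonempty) {i j : Fin (N + 1)} (hi : i ∈ I) (hj : j ∈ I) :
    ores (UI_le (chart N k) hi) (ratio (r := N) (k := k) i j) =
      (pData N k).fn hI (ratT (Gp (G0 N k)) hj hi 1) := by
  have h1 : (pData N k).fn hI (ratT (Gp (G0 N k)) hj hi 1) = (evI I hI).symm (ratL hi j) := by
    rw [← toF0_ratL]
    exact pe_toF0 hI (ratL hi j)
  rw [h1, ← evI_ratio hI hi j, RingEquiv.symm_apply_apply]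

/-- `O(m)`. -/
theorem nonempty_pTw (m : ℤ) : Nonempty (Tw (pData N k) (Twist.twistProjSpace N k m) m) := by
  obtain ⟨g, hg, hrel⟩ := Groth.Agent.Lefpen.H121.CurveForm.exists_gens (N := N) (k := k) m
  refine ⟨{ inv := ?_, g := g, gen := hg, rel := ?_ }⟩
  · rw [Groth.Agent.Fdesc.LocGen.isInvertible_iff]
    intro x
    have hx : x ∈ ⨆ j : Fin (N + 1), chart N k j := by rw [iSup_chart']; trivial
    obtain ⟨j, hj⟩ := Opens.mem_iSup.1 hx
    exact ⟨_, g j, hj, hg j⟩
  · intro I hI i j hi hj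
    exact rel_of (pData N k) g (fun i j => ratio i j) (fun hI _ _ hi hj => ores_ratio hI hi hj) hrel hI hi hj

end P

end K568.TwGeo
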