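import Groth.Agent.Lefpen.H278.OmSys
import Groth.Agent.Fga.TwistCoh

/-!
# Twists and Čech systems

`F G I`: the Laurent model.  `ModSys`: a system of graded modules over `F G I`.  `CData`: opens `U i` of a scheme `X`
with `Γ(X, U_I) = (F G I)_0`.  `Tw`: an invertible module with generators on the `U i` that transform like `T_i^m`.
`nonempty_equiv`: if the part of degree `m₀` of a system of graded modules is the system of sections of `M`, the part
of degree `m₀ + m` computes the cohomology of `M ⊗ L`.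
-/

set_option autoImplicit false
universe u
open CategoryTheory CategoryTheory.Limits AlgebraicGeometry Opposite TopologicalSpace

namespace K568.TwSys

open Groth.Agent.Lefpen.H722.Sys Groth.Agent.Lefpen.H722.Ring Groth.Agent.Lefpen.H278.RingIso
open Groth.Agent.Lefpen.H278.SecSys Groth.Agent.Lefpen.H721.OmegaSec

section Alg

variable {k : Type u} [CommRing k] {ι : Type} [Fintype ι] {d : ℕ} (G : Fin d → MvPolynomial ι k)

/-- The coordinate `T_i`, `i ∈ I`, as a unit. -/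
noncomputable def uT {I : Set ι} {i : ι} (hi : i ∈ I) : (F G I)ˣ where
  val := T G I i
  inv := mk G I (invX hi)
  val_inv := by
    change mk G I _ * mk G I _ = 1
    rw [← map_mul, X_mul_invX, map_one]
  inv_val := by
    change mk G I _ * mk G I _ = 1
    rw [← map_mul, mul_comm, X_mul_invX, map_one]

theorem uT_val {I : Set ι} {i : ι} (hi : i ∈ I) : ((uT G hi : (F G I)ˣ) : F G I) = T G I i := rfl

theorem uT_inv_mem {I : Set ι} {i : ι} (hi : i ∈ I) : (((uT G hi)⁻¹ : (F G I)ˣ) : F G I) ∈ gr G I (-1) :=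
  mk_mem_gr G (invX_mem hi)

theorem pow_mem {I : Set ι} {a : ℤ} {x : F G I} (hx : x ∈ gr G I a) (n : ℕ) : x ^ n ∈ gr G I (n * a) := by
  induction n with
  | zero => rw [pow_zero, Nat.cast_zero, zero_mul]; exact one_mem_gr G I
  | succ n ih =>
    rw [pow_succ, Nat.cast_succ, add_mul, one_mul]
    exact mul_mem_gr G ih hx

theorem uT_zpow_mem {I : Set ι} {i : ι} (hi : i ∈ I) (m : ℤ) :
    (((uT G hi) ^ m : (F G I)ˣ) : F G I) ∈ gr G I m := by
  obtain ⟨n, rfl | rfl⟩ := m.eq_nat_or_neg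
  · rw [zpow_natCast, Units.val_pow_eq_pow_val, uT_val]
    have := pow_mem G (T_mem G I i) n
    rwa [mul_one] at this
  · rw [zpow_neg, zpow_natCast, ← inv_pow, Units.val_pow_eq_pow_val]
    have := pow_mem G (uT_inv_mem G hi) n
    rwa [mul_neg, mul_one] at this

/-- `T_i^m T_j^{-m}`. -/
noncomputable def ratT {I : Set ι} {i j : ι} (hi : i ∈ I) (hj : j ∈ I) (m : ℤ) : F0 G I :=
  ⟨(((uT G hi) ^ m * (uT G hj) ^ (-m) : (F G I)ˣ) : F G I), by
    rw [mem_F0, Units.val_mul]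
    have := mul_mem_gr G (uT_zpow_mem G hi m) (uT_zpow_mem G hj (-m))
    rwa [add_neg_cancel] at this⟩

theorem ρ_uT {I J : Set ι} (h : I ⊆ J) {i : ι} (hi : i ∈ I) :
    Units.map (ρ G h : F G I →* F G J) (uT G hi) = uT G (h hi) :=
  Units.ext (ρ_T G h i)

theorem ρ_uT_zpow {I J : Set ι} (h : I ⊆ J) {i : ι} (hi : i ∈ I) (m : ℤ) :
    ρ G h (((uT G hi) ^ m : (F G I)ˣ) : F G I) = (((uT G (h hi)) ^ m : (F G J)ˣ) : F G J) := by
  rw [← ρ_uT G h hi, ← map_zpow]
  rfl

theorem ρ0_ratT {I J : Set ι} (h : I ⊆ J) {i j : ι} (hi : i ∈ I) (hj : j ∈ I) (m : ℤ) :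
    ρ0 G h (ratT G hi hj m) = ratT G (h hi) (h hj) m := by
  apply Subtype.ext
  rw [ρ0_val, ratT, ratT]
  dsimp only
  rw [Units.val_mul, Units.val_mul, map_mul, ρ_uT_zpow, ρ_uT_zpow]

/-- A system of graded modules over the rings `F G I`. -/
structure ModSys where
  /-- the modules -/
  Mod : Set ι → Type u
  [ac : ∀ I, AddCommGroup (Mod I)]
  [mF : ∀ I, Module (F G I) (Mod I)]
  [mdk : ∀ I, Module k (Mod I)]
  [tw : ∀ I, IsScalarTower k (F G I) (Mod I)]
  /-- the graded pieces -/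
  P : ∀ I, ℤ → Submodule k (Mod I)
  smul_mem : ∀ {I : Set ι} {a b : ℤ} {x : F G I} {y : Mod I}, x ∈ gr G I a → y ∈ P I b → x • y ∈ P I (a + b)
  /-- restriction -/
  r : ∀ {I J : Set ι}, I ⊆ J → (Mod I →ₗ[k] Mod J)
  r_smul : ∀ {I J : Set ι} (h : I ⊆ J) (x : F G I) (y : Mod I), r h (x • y) = ρ G h x • r h y
  r_mem : ∀ {I J : Set ι} (h : I ⊆ J) {m : ℤ} {y : Mod I}, y ∈ P I m → r h y ∈ P J m
  r_r : ∀ {I J K : Set ι} (h : I ⊆ J) (h' : J ⊆ K) (y : Mod I), r h' (r h y) = r (h.trans h') y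

attribute [instance] ModSys.ac ModSys.mF ModSys.mdk ModSys.tw

variable {G} (S : ModSys G)

/-- The part of degree `m`. -/
def ModSys.sys (m : ℤ) : Sys k ι where
  M I := S.P I m
  res {I J} h := (S.r h).restrict (p := S.P I m) (q := S.P J m) (fun _ hy => S.r_mem h hy)
  res_res h h' x := Subtype.ext (S.r_r h h' x.1)

theorem ModSys.smul_mem' {I : Set ι} {a b c : ℤ} (hc : c = a + b) {x : F G I} {y : S.Mod I} (hx : x ∈ gr G I a)
    (hy : y ∈ S.P I b) : x • y ∈ S.P I c := by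
  rw [hc]
  exact S.smul_mem hx hy

/-- Multiplication by an element of degree zero. -/
theorem ModSys.smul_mem0 {I : Set ι} {b : ℤ} (x : F0 G I) {y : S.Mod I}
    (hy : y ∈ S.P I b) : x.1 • y ∈ S.P I b :=
  S.smul_mem' (zero_add b).symm x.2 hy

/-- Division by `T_j^m`. -/
theorem ModSys.div_mem {I : Set ι} {m₀ m : ℤ} {j : ι} (hj : j ∈ I) {y : S.Mod I} (hy : y ∈ S.P I (m₀ + m)) :
    (((uT G hj) ^ (-m) : (F G I)ˣ) : F G I) • y ∈ S.P I m₀ :=
  S.smul_mem' (by ring) (uT_zpow_mem G hj (-m)) hy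

end Alg

section Sch

open Groth.Agent.Fga.TwistCoh Groth.Agent.Fdesc.LocGen

variable {k : Type u} [Field k] {ι : Type} [Fintype ι] {d : ℕ} (G : Fin d → MvPolynomial ι k)

/-- Opens `U i` with `Γ(X, U_I) = (F G I)_0`. -/
structure CData {X : Scheme.{u}} (f : X ⟶ Spec (CommRingCat.of k)) (U : ι → X.Opens) where
  cov : ⨆ i, U i = ⊤
  aff : ∀ s : Finset ι, s.Nonempty → IsAffineOpen (⨅ i ∈ s, U i)
  /-- the identification -/
  e : ∀ {I : Set ι}, I.Nonempty → (F0 G I ≃ₐ[k] SA f (UI U I))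
  res : ∀ {I J : Set ι} (hI : I.Nonempty) (h : I ⊆ J) (x : F0 G I),
    resA f (UI_anti U h) (e hI x) = e (hI.mono h) (ρ0 G h x)

omit [Fintype ι] in
theorem UI_le {X : Scheme.{u}} (U : ι → X.Opens) {I : Set ι} {i : ι} (hi : i ∈ I) : UI U I ≤ U i :=
  iInf₂_le i hi

variable {G} {X : Scheme.{u}} {f : X ⟶ Spec (CommRingCat.of k)} {U : ι → X.Opens} (D : CData G f U)

/-- The functions on `U_I`. -/
noncomputable def CData.fn {I : Set ι} (hI : I.Nonempty) (b : F0 G I) : Γ(X, UI U I) := D.e hI b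

theorem CData.fn_mul {I : Set ι} (hI : I.Nonempty) (b c : F0 G I) : D.fn hI (b * c) = D.fn hI b * D.fn hI c :=
  map_mul (D.e hI) b c

theorem CData.ores_fn {I J : Set ι} (hI : I.Nonempty) (h : I ⊆ J) (b : F0 G I) :
    ores (UI_anti U h) (D.fn hI b) = D.fn (hI.mono h) (ρ0 G h b) := D.res hI h b

include D in
theorem CData.aff' {I : Set ι} (hI : I.Nonempty) : IsAffineOpen (UI U I) := by
  classical
  have h := D.aff I.toFinset (by simpa using hI)
  simpa [UI] using h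

/-- `L` has generators over the `U i` that transform like `T_i^m`. -/
structure Tw (L : X.Modules) (m : ℤ) where
  inv : PicF.IsInvertible L
  /-- the generators -/
  g : ∀ i, Γ(L, U i)
  gen : ∀ i, IsGen (g i)
  rel : ∀ {I : Set ι} (hI : I.Nonempty) {i j : ι} (hi : i ∈ I) (hj : j ∈ I),
    res L (UI_le U hi) (g i) = D.fn hI (ratT G hi hj m) • res L (UI_le U hj) (g j)

/-- The sections of `M` over the `U_I` are the parts of degree `m₀` of the modules of the system `S`. -/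
structure SecD (S : ModSys G) (m₀ : ℤ) (M : X.Modules) where
  /-- the identification -/
  θ : ∀ {I : Set ι}, I.Nonempty → (S.P I m₀ ≃+ Γ(M, UI U I))
  smul : ∀ {I : Set ι} (hI : I.Nonempty) (b : F0 G I) (y : S.P I m₀),
    θ hI ⟨b.1 • y.1, S.smul_mem0 b y.2⟩ = D.fn hI b • θ hI y
  res : ∀ {I J : Set ι} (hI : I.Nonempty) (h : I ⊆ J) (y : S.P I m₀),
    Groth.Agent.Fdesc.LocGen.res M (UI_anti U h) (θ hI y) = θ (hI.mono h) ⟨S.r h y.1, S.r_mem h y.2⟩

variable {D}

/-- Division by `T_j^m`. -/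
noncomputable def divE (S : ModSys G) {I : Set ι} {j : ι} (hj : j ∈ I) (m₀ m : ℤ) :
    S.P I (m₀ + m) ≃+ S.P I m₀ where
  toFun y := ⟨(((uT G hj) ^ (-m) : (F G I)ˣ) : F G I) • y.1, S.div_mem hj y.2⟩
  invFun y := ⟨(((uT G hj) ^ m : (F G I)ˣ) : F G I) • y.1, S.smul_mem' (by ring) (uT_zpow_mem G hj m) y.2⟩
  left_inv y := Subtype.ext (by
    dsimp only
    rw [smul_smul, ← Units.val_mul, ← zpow_add, add_neg_cancel, zpow_zero, Units.val_one, one_smul])
  right_inv y := Subtype.ext (by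
    dsimp only
    rw [smul_smul, ← Units.val_mul, ← zpow_add, neg_add_cancel, zpow_zero, Units.val_one, one_smul])
  map_add' y z := Subtype.ext (smul_add _ _ _)

variable {S : ModSys G} {m₀ m : ℤ} {M L : X.Modules} (σ : SecD D S m₀ M) (τ : Tw D L m)

/-- The identification for the twisted module, through the generator number `j`. -/
noncomputable def twθ {I : Set ι} (hI : I.Nonempty) {j : ι} (hj : j ∈ I) :
    S.P I (m₀ + m) ≃+ Γ(CohB1.tensorMod M L, UI U I) :=
  ((divE S hj m₀ m).trans (σ.θ hI)).trans (tmulEquiv M ((τ.gen j).res (UI_le U hj))).toAddEquiv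

theorem twθ_apply {I : Set ι} (hI : I.Nonempty) {j : ι} (hj : j ∈ I) (y : S.P I (m₀ + m)) :
    twθ σ τ hI hj y = Groth.Agent.Ega2.Tens.tmul (σ.θ hI ⟨(((uT G hj) ^ (-m) : (F G I)ˣ) : F G I) • y.1, S.div_mem hj y.2⟩)
      (Groth.Agent.Fdesc.LocGen.res L (UI_le U hj) (τ.g j)) := rfl

theorem twθ_smul {I : Set ι} (hI : I.Nonempty) {j : ι} (hj : j ∈ I) (b : F0 G I) (y : S.P I (m₀ + m)) :
    twθ σ τ hI hj ⟨b.1 • y.1, S.smul_mem0 b y.2⟩ = D.fn hI b • twθ σ τ hI hj y := by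
  rw [twθ_apply, twθ_apply, ← Groth.Agent.Ega2.Tens.smul_tmul, ← σ.smul]
  congr 3
  dsimp only
  rw [smul_comm]

theorem twθ_indep {I : Set ι} (hI : I.Nonempty) {i j : ι} (hi : i ∈ I) (hj : j ∈ I) (y : S.P I (m₀ + m)) :
    twθ σ τ hI hi y = twθ σ τ hI hj y := by
  rw [twθ_apply, twθ_apply, τ.rel hI hi hj, Groth.Agent.Ega2.Tens.tmul_smul, ← Groth.Agent.Ega2.Tens.smul_tmul,
    ← σ.smul]
  congr 3
  dsimp only
  rw [ratT, smul_smul, ← Units.val_mul]
  congr 2
  rw [mul_comm, ← mul_assoc, ← zpow_add, neg_add_cancel, zpow_zero, one_mul]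

theorem twθ_res {I J : Set ι} (hI : I.Nonempty) (h : I ⊆ J) {j : ι} (hj : j ∈ I) (y : S.P I (m₀ + m)) :
    Groth.Agent.Fdesc.LocGen.res (CohB1.tensorMod M L) (UI_anti U h) (twθ σ τ hI hj y) =
      twθ σ τ (hI.mono h) (h hj) ⟨S.r h y.1, S.r_mem h y.2⟩ := by
  rw [twθ_apply, twθ_apply]
  have hres : ∀ (s : Γ(M, UI U I)) (t : Γ(L, UI U I)),
      Groth.Agent.Fdesc.LocGen.res (CohB1.tensorMod M L) (UI_anti U h) (Groth.Agent.Ega2.Tens.tmul s t) =
        Groth.Agent.Ega2.Tens.tmul (Groth.Agent.Fdesc.LocGen.res M (UI_anti U h) s)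
          (Groth.Agent.Fdesc.LocGen.res L (UI_anti U h) t) :=
    fun s t => Groth.Agent.VarietyB.TensLoc.res_tmul (UI_anti U h) s t
  rw [hres, σ.res, res_res]
  refine congrArg₂ Groth.Agent.Ega2.Tens.tmul (congrArg _ (Subtype.ext ?_)) rfl
  dsimp only
  rw [S.r_smul, ρ_uT_zpow]

/-- **Twisting.** -/
noncomputable def SecD.twist : SecD D S (m₀ + m) (CohB1.tensorMod M L) where
  θ hI := twθ σ τ hI hI.some_mem
  smul hI b y := twθ_smul σ τ hI hI.some_mem b y
  res hI h y := by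
    rw [twθ_res σ τ hI h hI.some_mem y]
    exact twθ_indep σ τ _ _ _ _

include σ in
/-- The cohomology of `M` is that of the system. -/
theorem SecD.nonempty_equiv [X.Over (Spec (CommRingCat.of k))] (hover : X ↘ Spec (CommRingCat.of k) = f)
    (hM : Coh.IsQCoh M) (p : ℕ) : Nonempty (H (S.sys m₀) p ≃ₗ[k] Coh.HH X M p) := by
  obtain ⟨e⟩ := Groth.Agent.Lefpen.H278.SysFam.nonempty_equiv_of_family (V := S.sys m₀)
    (W := secSys k U M)
    (fun I hI => ({ σ.θ hI with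
      map_smul' := fun c y => by
        subst hover
        have h1 := σ.smul hI (algebraMap k (F0 G I) c) y
        have h2 : (⟨(algebraMap k (F0 G I) c).1 • y.1, S.smul_mem0 _ y.2⟩ : S.P I m₀) = c • y :=
          Subtype.ext (algebraMap_smul (F G I) c y.1)
        rw [h2] at h1
        refine h1.trans ?_
        have h3 : D.fn hI (algebraMap k (F0 G I) c) = Groth.Agent.Fga.MumCech.glV k (UI U I) c :=
          (D.e hI).commutes c
        rw [h3]
        rfl } : S.P I m₀ ≃ₗ[k] Sec k M (UI U I)))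
    (fun I J hI h x => (σ.res hI h x).symm) p
  obtain ⟨e'⟩ := Groth.Agent.Lefpen.H278.SecSys.nonempty_equiv k U D.cov D.aff M hM p
  exact ⟨e.trans e'⟩

end Sch

end K568.TwSys
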